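import Mathlib.Data.Real.Basic
import Mathlib.Tactic.Linarith
import Mathlib.Tactic.Positivity
import Mathlib.Tactic.Ring
import Mathlib.Tactic.FieldSimp

/-! # The numerical part of the comparison of weights near one -/

set_option autoImplicit false

namespace Groth.Agent.GPStab28

/-- `1 - α < 1 / (d n (n - 1))` bounds every bracket by one. -/
theorem mul_lt_one {α : ℝ} {d n : ℕ} (hd : 0 < d) (hn : 2 ≤ n) (hα1 : α < 1)
    (hα : 1 - 1 / ((d : ℝ) * (n : ℝ) * ((n : ℝ) - 1)) < α) {x : ℤ} (hx : x ≤ d * n * ((n : ℤ) - 1)) :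
    (1 - α) * (x : ℝ) < 1 := by
  have hn' : (2 : ℝ) ≤ n := by exact_mod_cast hn
  have hd' : (0 : ℝ) < d := by exact_mod_cast hd
  have hpos : 0 < (d : ℝ) * n * ((n : ℝ) - 1) := by
    refine mul_pos (mul_pos hd' ?_) ?_ <;> linarith
  have hx' : (x : ℝ) ≤ (d : ℝ) * n * ((n : ℝ) - 1) := by
    have h := (Int.cast_le (R := ℝ)).2 hx
    push_cast at h
    exact h
  have h1 : (1 - α) * ((d : ℝ) * n * ((n : ℝ) - 1)) < 1 := by
    have h2 : 1 - α < 1 / ((d : ℝ) * (n : ℝ) * ((n : ℝ) - 1)) := by linarith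
    rwa [lt_div_iff₀ hpos] at h2
  exact (mul_le_mul_of_nonneg_left hx' (by linarith)).trans_lt h1

theorem up {α : ℝ} {d n : ℕ} (hd : 0 < d) (hn : 2 ≤ n) (hα1 : α < 1)
    (hα : 1 - 1 / ((d : ℝ) * (n : ℝ) * ((n : ℝ) - 1)) < α) {D D' : ℤ} {a a' r' : ℕ} (hr : r' ≤ n)
    (ha' : a' ≤ r' * d)
    (h : ((D' : ℝ) + α * a') * n ≤ ((D : ℝ) + α * a) * r') :
    ((D' : ℝ) + 1 * a') * n ≤ ((D : ℝ) + 1 * a) * r' := by
  rcases hr.lt_or_eq with hlt | rfl
  · set Z : ℤ := (D' + a') * n - (D + a) * r' with hZdef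
    have hn1 : (r' : ℤ) ≤ (n : ℤ) - 1 := by omega
    have hb : (a' : ℤ) * n - a * r' ≤ d * n * ((n : ℤ) - 1) := by
      have h1 : (a' : ℤ) * n ≤ d * n * ((n : ℤ) - 1) := by
        calc (a' : ℤ) * n ≤ (r' * d : ℤ) * n := by
              exact mul_le_mul_of_nonneg_right (by exact_mod_cast ha') (by positivity)
          _ ≤ ((n : ℤ) - 1) * d * n := by
              exact mul_le_mul_of_nonneg_right (mul_le_mul_of_nonneg_right hn1 (by positivity)) (by positivity)
          _ = d * n * ((n : ℤ) - 1) := by ring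
      have h2 : 0 ≤ (a : ℤ) * r' := by positivity
      omega
    have h3 := mul_lt_one hd hn hα1 hα hb
    push_cast at h3
    have h4 : (Z : ℝ) < 1 := by simp only [hZdef]; push_cast; nlinarith
    have h5 : Z < 1 := by exact_mod_cast h4
    have h6 : (Z : ℝ) ≤ 0 := by exact_mod_cast (by omega : Z ≤ 0)
    simp only [hZdef] at h6
    push_cast at h6
    linarith
  · set W : ℤ := D' + a' - (D + a) with hWdef
    have hb : (a' : ℤ) - a ≤ d * r' * ((r' : ℤ) - 1) := by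
      have h1 : (a' : ℤ) ≤ r' * d := by exact_mod_cast ha'
      have h2 : (r' : ℤ) * d * 1 ≤ r' * d * ((r' : ℤ) - 1) := mul_le_mul_of_nonneg_left (by omega) (by positivity)
      have h2' : (r' : ℤ) * d * ((r' : ℤ) - 1) = d * r' * ((r' : ℤ) - 1) := by ring
      omega
    have h3 := mul_lt_one hd hn hα1 hα hb
    push_cast at h3
    have hpos : (0 : ℝ) < r' := by exact_mod_cast (by omega : 0 < r')
    have h7 := le_of_mul_le_mul_right h hpos
    have h4 : (W : ℝ) < 1 := by simp only [hWdef]; push_cast; nlinarith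
    have h5 : W < 1 := by exact_mod_cast h4
    have h6 : (W : ℝ) ≤ 0 := by exact_mod_cast (by omega : W ≤ 0)
    simp only [hWdef] at h6
    push_cast at h6
    exact mul_le_mul_of_nonneg_right (by linarith) hpos.le

theorem down {α : ℝ} {d n : ℕ} (hd : 0 < d) (hn : 2 ≤ n) (hα1 : α < 1)
    (hα : 1 - 1 / ((d : ℝ) * (n : ℝ) * ((n : ℝ) - 1)) < α) {D D' : ℤ} {a a' r' : ℕ} (hr : r' < n)
    (ha : a ≤ n * d)
    (h : ((D' : ℝ) + 1 * a') * n < ((D : ℝ) + 1 * a) * r') :
    ((D' : ℝ) + α * a') * n < ((D : ℝ) + α * a) * r' := by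
  set Z : ℤ := (D + a) * r' - (D' + a') * n with hZdef
  have hb : (a : ℤ) * r' - a' * n ≤ d * n * ((n : ℤ) - 1) := by
    have h1 : (a : ℤ) * r' ≤ d * n * ((n : ℤ) - 1) := by
      calc (a : ℤ) * r' ≤ (n * d : ℤ) * r' := mul_le_mul_of_nonneg_right (by exact_mod_cast ha) (by positivity)
        _ ≤ (n * d : ℤ) * ((n : ℤ) - 1) := mul_le_mul_of_nonneg_left (by omega) (by positivity)
        _ = d * n * ((n : ℤ) - 1) := by ring
    have h2 : 0 ≤ (a' : ℤ) * n := by positivity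
    omega
  have h3 := mul_lt_one hd hn hα1 hα hb
  push_cast at h3
  have h4 : (0 : ℝ) < (Z : ℝ) := by simp only [hZdef]; push_cast; linarith
  have h5 : 1 ≤ Z := by exact_mod_cast h4
  have h6 : (1 : ℝ) ≤ (Z : ℝ) := by exact_mod_cast h5
  simp only [hZdef] at h6
  push_cast at h6
  nlinarith

end Groth.Agent.GPStab28
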