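import Groth.Agent.Lib.VB17.Proper
import Groth.Agent.Lib.CurveCoh17.Equality
import Groth.Agent.Lib.CurveAmple18.Cartier
import Groth.Agent.Lib.TensorNat17.Basic
import Groth.Prelude.Def_ParBun2

/-! # The fibre over a divisor of a map of vector bundles -/

set_option autoImplicit false
set_option linter.style.haveILetI false
set_option maxHeartbeats 1000000

universe u

open CategoryTheory TopologicalSpace CategoryTheory.Limits AlgebraicGeometry

namespace Groth.Agent.GPStab28

open Groth.Agent.M1 Groth.Agent.M2 Groth.Agent.CurveCoh17 Groth.Agent.VB17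

variable {k : Type u} [Field k] {X : Scheme.{u}} [X.Over (Spec (CommRingCat.of k))]
variable {I : X.IdealSheafData}

theorem kosz_tensorMap {L L' M M' : X.Modules} (f : L ⟶ L') (g : M ⟶ M') :
    KoszTw.tensorMap f g = tensorMap f g := by
  rw [KoszTw.tensorMap_eq_sheafify]
  rfl

theorem hh_lin {M N : X.Modules} (φ : M ⟶ N) : Canon.HHlin k φ 0 = hmap k φ 0 := LinearMap.ext fun _ => rfl

/-- A monomorphism gives an injection on sections. -/
theorem hmap_injective {M N : X.Modules} (φ : M ⟶ N) [Mono φ] : Function.Injective (hmap k φ 0) := by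
  have hS : (ShortComplex.mk φ (cokernel.π φ) (cokernel.condition φ)).ShortExact :=
    { exact := ShortComplex.exact_cokernel φ
      mono_f := inferInstance
      epi_g := inferInstance }
  have h := hmap_f_injective (S := ShortComplex.mk φ (cokernel.π φ) (cokernel.condition φ)) k hS
  exact h

theorem suppIn_of_injective {M N : X.Modules} (φ : M ⟶ N) (h : ∀ x, Function.Injective (stalkLin φ x))
    {S : Finset X} (hN : SuppIn N S) : SuppIn M S :=
  ⟨hN.closed, fun x hx a => h x ((hN.zero x hx _).trans (map_zero _).symm)⟩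

theorem suppIn_of_surjective {M N : X.Modules} (φ : M ⟶ N) (h : ∀ x, Function.Surjective (stalkLin φ x))
    {S : Finset X} (hM : SuppIn M S) : SuppIn N S :=
  ⟨hM.closed, fun x hx b => by obtain ⟨a, rfl⟩ := h x b; rw [hM.zero x hx a, map_zero]⟩

/-- An epimorphism from a module with finite support is surjective on sections. -/
theorem hmap_surjective_of_suppIn {M N : X.Modules} (φ : M ⟶ N) [Epi φ] {S : Finset X} (hM : SuppIn M S) :
    Function.Surjective (hmap k φ 0) := by
  have hS : (ShortComplex.mk (kernel.ι φ) φ (kernel.condition φ)).ShortExact :=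
    { exact := ShortComplex.exact_kernel φ }
  have hK : SuppIn (kernel φ) S := suppIn_of_injective (kernel.ι φ) ((mono_iff_stalk (kernel.ι φ)).1 inferInstance) hM
  haveI := hK.subsingleton_HH 0
  intro y
  exact (exact_hmap_hdelta k hS 0 y).1 (Subsingleton.elim (α := Coh.HH X (kernel φ) 1) _ _)

section Fibre

variable [IsIntegral X] (hX : RegCurve k X) (hD : FGA.IsEffCartier I)
include hX hD

theorem exists_supp : ∃ S : Finset X, SuppIn (ClSub.quotMod I) S := by
  haveI := hX.like.noetherian
  exact exists_suppIn_quotMod I (Groth.Agent.CurveAmple18.dim_support_le hX.like.dim hD)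

theorem fin_quot : Module.Finite k (Coh.HH X (ClSub.quotMod I) 0) := by
  haveI := hX.like.noetherian
  exact hX.like.fin _ (isCoh_quotMod I) 0

theorem fibD_data {r : ℕ} {E : X.Modules} (hE : FlatMod.IsFinLocFreeOfRank r E) :
    (∃ S : Finset X, SuppIn (ParSh.resD I E) S) ∧ Module.Finite k (ParSh.fibD X I E) ∧
      Module.finrank k (ParSh.fibD X I E) = r * Module.finrank k (Coh.HH X (ClSub.quotMod I) 0) := by
  obtain ⟨S, hS⟩ := exists_supp hX hD
  have hf := fin_quot hX hD
  have he := nonempty_stalk_equiv hE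
  let c := tensorComm (ClSub.quotMod I) E
  have h1 := hS.tensor E
  refine ⟨⟨S, suppIn_of_surjective c.hom (fun x => surjective_stalkLin_of_isIso _ x) h1⟩, ?_, ?_⟩
  · haveI := hS.finite_tensor hf E he
    exact Module.Finite.equiv (hequiv k c 0)
  · rw [← hS.finrank_tensor hf E he]
    exact (hequiv k c 0).finrank_eq.symm

theorem adm_resD {r : ℕ} {E : X.Modules} (hE : FlatMod.IsFinLocFreeOfRank r E) :
    Adm k (ParSh.resD I E) := by
  obtain ⟨⟨S, hS⟩, hf, -⟩ := fibD_data (k := k) hX hD hE
  exact hS.adm hf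

/-- The restriction map to the divisor. -/
noncomputable def toRes (I : X.IdealSheafData) (E : X.Modules) : E ⟶ ParSh.resD I E :=
  (tensorLUnit E).inv ≫ tensorMap (ClSub.toSubscheme I) (𝟙 E) ≫ (tensorComm (ClSub.quotMod I) E).hom

omit [X.Over (Spec (CommRingCat.of k))] [IsIntegral X] hX hD in
theorem toRes_natural {G E : X.Modules} (i : G ⟶ E) :
    i ≫ toRes I E = toRes I G ≫ ParSh.resDMap I i := by
  rw [ParSh.resDMap, kosz_tensorMap]
  unfold toRes
  have h1 : i ≫ (tensorLUnit E).inv = (tensorLUnit G).inv ≫ tensorMap (𝟙 (Coh.structureModule X)) i := by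
    rw [Iso.comp_inv_eq, Category.assoc, tensorLUnit_natural, Iso.inv_hom_id_assoc]
  rw [← Category.assoc, h1]
  simp only [Category.assoc]
  rw [← tensorComm_natural (𝟙 (ClSub.quotMod I)) i, ← Category.assoc (tensorMap (𝟙 _) i) (tensorMap _ _),
    ← tensorMap_comp, ← Category.assoc (tensorMap _ (𝟙 G)) (tensorMap _ _), ← tensorMap_comp]
  simp only [Category.id_comp, Category.comp_id]

omit [X.Over (Spec (CommRingCat.of k))] [IsIntegral X] hX hD in
theorem surjective_toRes (E : X.Modules) (x : X) : Function.Surjective (stalkLin (toRes I E) x) := by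
  haveI := epi_toSubscheme I
  intro a
  obtain ⟨a₁, rfl⟩ := surjective_stalkLin_of_isIso (tensorComm (ClSub.quotMod I) E).hom x a
  obtain ⟨a₂, rfl⟩ := surjective_stalk_tensorMap (ClSub.toSubscheme I) (𝟙 E) x
    ((epi_iff_stalk (ClSub.toSubscheme I)).1 inferInstance x) (surjective_stalkLin_of_isIso _ x) a₁
  obtain ⟨a₃, rfl⟩ := surjective_stalkLin_of_isIso (tensorLUnit E).inv x a₂
  exact ⟨a₃, by rw [toRes, stalkLin_comp, stalkLin_comp]⟩

/-- The kernel on the fibre is no bigger than the drop of the degree. -/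
theorem finrank_ker_le {r : ℕ} {G E : X.Modules} (hG : FlatMod.IsFinLocFreeOfRank r G)
    (hE : FlatMod.IsFinLocFreeOfRank r E) (i : G ⟶ E) [Mono i] :
    (Module.finrank k (LinearMap.ker (ParSh.fibDMap k X I i)) : ℤ) ≤ Curv2.deg k X E r - Curv2.deg k X G r := by
  haveI := hX.like.noetherian
  -- the cokernel
  have hinj := (mono_iff_stalk i).1 inferInstance
  obtain ⟨S₁, hS₁⟩ := exists_suppIn_of_maximal hX.like.dim
    (M1.isCoh_cokernel (isCoh_of_ofRank hG).1 (isCoh_of_ofRank hE) i) fun x hx =>
      eq_genericPoint_of_maximal hx ▸ eq_zero_stalk_cokernel i _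
        (surjective_stalkLin_genericPoint (nonempty_stalk_equiv hG _) (nonempty_stalk_equiv hE _) i (hinj _))
  have hK0 : ∀ x, ∀ a : (kernel i).presheaf.stalk x, a = 0 := fun x => eq_zero_stalk_kernel i x (hinj x)
  have hKi : SuppIn (kernel i) S₁ := ⟨hS₁.closed, fun x _ => hK0 x⟩
  obtain ⟨-, hci, hei⟩ := euler_sub i (hX.like.adm (isCoh_of_ofRank hG)) (hX.like.adm (isCoh_of_ofRank hE)) hKi hS₁
  haveI := finrank_h0_of_empty (suppIn_empty_of_isZero hK0)
  rw [Module.finrank_zero_of_subsingleton (M := Coh.HH X (kernel i) 0)] at hei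
  -- on the divisor
  obtain ⟨⟨SG, hSG⟩, hfG, hdG⟩ := fibD_data (k := k) hX hD hG
  obtain ⟨⟨SE, hSE⟩, hfE, hdE⟩ := fibD_data (k := k) hX hD hE
  classical
  set φ := ParSh.resDMap I i with hφ
  have hclosed : ∀ x ∈ SG ∪ SE, IsClosed ({x} : Set X) := fun x hx =>
    (Finset.mem_union.1 hx).elim (hSG.closed x) (hSE.closed x)
  have hKφ : SuppIn (kernel φ) (SG ∪ SE) :=
    suppIn_of_injective (kernel.ι φ) ((mono_iff_stalk (kernel.ι φ)).1 inferInstance) (hSG.mono Finset.subset_union_left hclosed)
  have hCφ : SuppIn (cokernel φ) (SG ∪ SE) :=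
    suppIn_of_surjective (cokernel.π φ) ((epi_iff_stalk (cokernel.π φ)).1 inferInstance) (hSE.mono Finset.subset_union_right hclosed)
  obtain ⟨hk, hc, he⟩ := euler_sub φ (hSG.adm hfG) (hSE.adm hfE) hKφ hCφ
  rw [hSG.euler_eq hfG, hSE.euler_eq hfE] at he
  have heq : Module.finrank k (Coh.HH X (ParSh.resD I E) 0) = Module.finrank k (Coh.HH X (ParSh.resD I G) 0) :=
    hdE.trans hdG.symm
  -- the cokernel of `i` maps onto the cokernel on the divisor
  let ψ : cokernel i ⟶ cokernel φ := cokernel.desc i (toRes I E ≫ cokernel.π φ) (by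
    rw [← Category.assoc, toRes_natural (X := X) i, Category.assoc, cokernel.condition, comp_zero])
  have hψs : ∀ x, Function.Surjective (stalkLin ψ x) := by
    intro x b
    obtain ⟨a, rfl⟩ := (epi_iff_stalk (cokernel.π φ)).1 inferInstance x b
    obtain ⟨e, rfl⟩ := surjective_toRes E x a
    refine ⟨stalkLin (cokernel.π i) x e, ?_⟩
    rw [← stalkLin_comp, cokernel.π_desc, stalkLin_comp]
    rfl
  haveI : Epi ψ := (epi_iff_stalk ψ).2 hψs
  haveI := hci
  have hle : Module.finrank k (Coh.HH X (cokernel φ) 0) ≤ Module.finrank k (Coh.HH X (cokernel i) 0) :=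
    LinearMap.finrank_le_finrank_of_surjective (hmap_surjective_of_suppIn ψ hS₁)
  -- the kernel on sections
  have hker : Module.finrank k (LinearMap.ker (ParSh.fibDMap k X I i)) = Module.finrank k (Coh.HH X (kernel φ) 0) := by
    have hinj' := hmap_f_injective k (kerSC_shortExact φ)
    rw [show LinearMap.ker (ParSh.fibDMap k X I i) = LinearMap.range (hmap k (kernel.ι φ) 0) from ?_,
      LinearMap.finrank_range_of_inj (f := hmap k (kernel.ι φ) 0) hinj']
    refine le_antisymm (fun z hz => ?_) ?_
    · have hz' : hmap k φ 0 z = 0 := by rw [← hh_lin]; exact hz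
      rw [← Abelian.image.fac φ, hmap_comp] at hz'
      have hz'' : hmap k (Abelian.factorThruImage φ) 0 z = 0 :=
        hmap_injective (k := k) (Abelian.image.ι φ) (hz'.trans (map_zero _).symm)
      exact ((exact_hmap_hmap k (kerSC_shortExact φ) 0 z).1 hz'')
    · rintro _ ⟨w, rfl⟩
      show Canon.HHlin k φ 0 (hmap k (kernel.ι φ) 0 w) = 0
      rw [hh_lin, ← hmap_comp, kernel.condition, hmap_zero]
  rw [hker, Curv2.deg, Curv2.deg]
  omega

omit hD in
/-- A sub-bundle gives a subspace of the fibre. -/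
theorem fibDMap_injective {K E G : X.Modules} {rG : ℕ} (ι : K ⟶ E) (π : E ⟶ G) (w : ι ≫ π = 0)
    (hS : (ShortComplex.mk ι π w).ShortExact) (hG : FlatMod.IsFinLocFreeOfRank rG G) :
    Function.Injective (ParSh.fibDMap k X I ι) := by
  rw [ParSh.fibDMap, hh_lin]
  haveI : Mono (ParSh.resDMap I ι) := by
    rw [ParSh.resDMap, kosz_tensorMap, mono_iff_stalk]
    intro x a b hab
    haveI : Module.Flat (X.presheaf.stalk x) (G.presheaf.stalk x) :=
      Module.Flat.of_linearEquiv (nonempty_stalk_equiv hG x).some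
    haveI : Module.Projective (X.presheaf.stalk x) (G.presheaf.stalk x) :=
      Module.Projective.of_equiv (nonempty_stalk_equiv hG x).some.symm
    have hsurj : Function.Surjective (stalkLin π x) := (epi_iff_stalk π).1 hS.epi_g x
    have hinj : Function.Injective (stalkLin ι x) := (mono_iff_stalk ι).1 hS.mono_f x
    have hex : Function.Exact (stalkLin ι x) (stalkLin π x) := by
      intro c
      refine ⟨fun hc => (exact_iff_stalk_eq_zero _).1 hS.exact x c hc, ?_⟩
      rintro ⟨a, rfl⟩
      show ((stalkAb x).map ι ≫ (stalkAb x).map π) a = 0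
      rw [← Functor.map_comp, w, Functor.map_zero]
      rfl
    obtain ⟨s, hs⟩ := Module.projective_lifting_property (stalkLin π x) LinearMap.id hsurj
    have hsplit : (∃ l, stalkLin π x ∘ₗ l = LinearMap.id) ↔ ∃ l, l ∘ₗ stalkLin ι x = LinearMap.id :=
      (Function.Exact.split_tfae hex hinj hsurj).out 0 1
    obtain ⟨ρ, hρ⟩ := hsplit.1 ⟨s, hs⟩
    apply (stalkEquiv K (ClSub.quotMod I) x).injective
    refine Function.LeftInverse.injective (g := LinearMap.rTensor ((ClSub.quotMod I).presheaf.stalk x) ρ)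
      (f := LinearMap.rTensor ((ClSub.quotMod I).presheaf.stalk x) (stalkLin ι x)) (fun z => ?_) ?_
    · rw [← LinearMap.rTensor_comp_apply, hρ, LinearMap.rTensor_id_apply]
    · rw [← stalkEquiv_natural, ← stalkEquiv_natural]
      exact congrArg _ hab
  exact hmap_injective _

theorem fibDMap_surjective {E G : X.Modules} {r : ℕ} (hE : FlatMod.IsFinLocFreeOfRank r E) (π : E ⟶ G) [Epi π] :
    Function.Surjective (ParSh.fibDMap k X I π) := by
  rw [ParSh.fibDMap, hh_lin]
  haveI : Epi (ParSh.resDMap I π) := by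
    rw [ParSh.resDMap, kosz_tensorMap, epi_iff_stalk]
    exact fun x => surjective_stalk_tensorMap π _ x ((epi_iff_stalk π).1 inferInstance x)
      (surjective_stalkLin_of_isIso _ x)
  obtain ⟨⟨S, hS⟩, -, -⟩ := fibD_data (k := k) hX hD hE
  exact hmap_surjective_of_suppIn _ hS

end Fibre

end Groth.Agent.GPStab28
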