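import Groth.Agent.Lib.GPStab28.Key
import Groth.Agent.Lib.GPStab28.Arith
import Groth.Agent.Lib.CurveCoh17.Pairing

/-! # Semistable generalized parabolic bundles on a curve -/

set_option autoImplicit false
set_option linter.style.haveILetI false
set_option maxHeartbeats 1000000

universe u

open CategoryTheory TopologicalSpace CategoryTheory.Limits AlgebraicGeometry

namespace Groth.Agent.GPStab28

open Groth.Agent.M1 Groth.Agent.M2 Groth.Agent.CurveCoh17 Groth.Agent.VB17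

variable {k : Type u} [Field k] {X : Scheme.{u}} [X.Over (Spec (CommRingCat.of k))]
variable {I : X.IdealSheafData}

theorem fib_comp {A B C : X.Modules} (f : A ⟶ B) (g : B ⟶ C) (z : ParSh.fibD X I A) :
    ParSh.fibDMap k X I (f ≫ g) z = ParSh.fibDMap k X I g (ParSh.fibDMap k X I f z) := by
  have e : ParSh.resDMap I (f ≫ g) = ParSh.resDMap I f ≫ ParSh.resDMap I g := by
    simp only [ParSh.resDMap, kosz_tensorMap, ← tensorMap_comp, Category.comp_id]
  show Canon.HHlin k (ParSh.resDMap I (f ≫ g)) 0 z = _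
  rw [e, hh_lin, hmap_comp]
  show _ = Canon.HHlin k _ 0 (Canon.HHlin k _ 0 z)
  rw [hh_lin, hh_lin]

theorem fib_id {A : X.Modules} (z : ParSh.fibD X I A) : ParSh.fibDMap k X I (𝟙 A) z = z := by
  show Canon.HHlin k (ParSh.resDMap I (𝟙 A)) 0 z = z
  rw [ParSh.resDMap, kosz_tensorMap, tensorMap_id, hh_lin, hmap_id]

theorem fib_zero {A B : X.Modules} (z : ParSh.fibD X I A) : ParSh.fibDMap k X I (0 : A ⟶ B) z = 0 := by
  show Canon.HHlin k (ParSh.resDMap I (0 : A ⟶ B)) 0 z = 0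
  have e : ParSh.resDMap I (0 : A ⟶ B) = 0 := by
    rw [ParSh.resDMap, kosz_tensorMap]
    exact (tensorR (ClSub.quotMod I)).map_zero A B
  rw [e, hh_lin, hmap_zero]

theorem fib_sub_smul {A : X.Modules} (c : k) (f : A ⟶ A) (z : ParSh.fibD X I A) :
    ParSh.fibDMap k X I (Formal.smulMod k A c - f) z = c • z - ParSh.fibDMap k X I f z := by
  show Canon.HHlin k (ParSh.resDMap I _) 0 z = _
  have e : ParSh.resDMap I (Formal.smulMod k A c - f) =
      Formal.smulModΓ (ParSh.resD I A) (Coh.toGlobal (X ↘ Spec (CommRingCat.of k)) c) - ParSh.resDMap I f := by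
    rw [ParSh.resDMap, kosz_tensorMap, ParSh.resDMap, kosz_tensorMap, ← tensorMap_smulModΓ]
    exact (tensorR (ClSub.quotMod I)).map_sub
  rw [e, hh_lin, sub_eq_add_neg, sub_eq_add_neg]
  show hmap₀ _ 0 z = _
  rw [hmap₀_add, hmap₀_smulModΓ]
  congr 1
  have h := hmap₀_add (- ParSh.resDMap I f) (ParSh.resDMap I f) 0 z
  rw [neg_add_cancel] at h
  have h0 : hmap₀ (0 : ParSh.resD I A ⟶ ParSh.resD I A) 0 z = 0 := hmap_zero k 0 z
  rw [h0] at h
  exact eq_neg_of_add_eq_zero_left h.symm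

theorem finrank_le_ker_add {V W : Type*} [AddCommGroup V] [AddCommGroup W] [Module k V] [Module k W]
    [Module.Finite k V] (f : V →ₗ[k] W) (U : Submodule k V) :
    Module.finrank k U ≤ Module.finrank k (LinearMap.ker f) + Module.finrank k (U.map f) := by
  have h := (f.domRestrict U).finrank_range_add_finrank_ker
  have h1 : LinearMap.range (f.domRestrict U) = U.map f := by
    ext w; simp [Submodule.mem_map]
  have h2 : Module.finrank k (LinearMap.ker (f.domRestrict U)) ≤ Module.finrank k (LinearMap.ker f) :=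
    LinearMap.finrank_le_finrank_of_injective
      (f := ((U.subtype.comp (LinearMap.ker (f.domRestrict U)).subtype).codRestrict (LinearMap.ker f)
        fun z => z.2))
      fun a b hab => Subtype.ext (Subtype.ext (congrArg Subtype.val hab :))
  rw [h1] at h
  omega

section

variable [IsIntegral X] (hX : RegCurve k X) (hD : FGA.IsEffCartier I)
include hX hD

/-- A map of full rank does not lower the parabolic degree. -/
theorem gpDeg_le_of_mono {α : ℝ} (hα0 : 0 ≤ α) (hα1 : α ≤ 1) {n : ℕ} {E F : X.Modules}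
    (hE : FlatMod.IsFinLocFreeOfRank n E) (hF : FlatMod.IsFinLocFreeOfRank n F)
    (F₁ : Submodule k (ParSh.fibD X I E)) (F₁' : Submodule k (ParSh.fibD X I F))
    (f : E ⟶ F) [Mono f] (hf : ParSh.IsGPHom k X I F₁ F₁' f) :
    ParSh.gpDeg k X α E F₁ n ≤ ParSh.gpDeg k X α F F₁' n := by
  haveI := (fibD_data (k := k) hX hD hE).2.1
  haveI := (fibD_data (k := k) hX hD hF).2.1
  have h1 := finrank_le_ker_add (ParSh.fibDMap k X I f) F₁
  have h2 := Submodule.finrank_mono hf
  have h3 := finrank_ker_le hX hD hE hF f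
  have h1' : (Module.finrank k F₁ : ℝ) ≤
      (Module.finrank k (LinearMap.ker (ParSh.fibDMap k X I f)) : ℝ) + (Module.finrank k F₁' : ℝ) := by
    exact_mod_cast h1.trans (Nat.add_le_add_left h2 _)
  have h3' := (Int.cast_le (R := ℝ)).2 h3
  push_cast at h3'
  unfold ParSh.gpDeg ParSh.gpWt
  nlinarith [mul_le_mul_of_nonneg_left h1' hα0,
    mul_le_mul_of_nonneg_right hα1 (Nat.cast_nonneg (α := ℝ) (Module.finrank k (LinearMap.ker (ParSh.fibDMap k X I f))))]

theorem gpDeg_eq_iff {α : ℝ} (hα0 : 0 ≤ α) (hα1 : α < 1) {n : ℕ} {E F : X.Modules}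
    (hE : FlatMod.IsFinLocFreeOfRank n E) (hF : FlatMod.IsFinLocFreeOfRank n F)
    (F₁ : Submodule k (ParSh.fibD X I E)) (F₁' : Submodule k (ParSh.fibD X I F))
    (f : E ⟶ F) [Mono f] (hf : ParSh.IsGPHom k X I F₁ F₁' f) :
    ParSh.gpDeg k X α E F₁ n = ParSh.gpDeg k X α F F₁' n ↔
      (IsIso f ∧ (0 < α → Submodule.map (ParSh.fibDMap k X I f) F₁ = F₁')) := by
  haveI := (fibD_data (k := k) hX hD hE).2.1
  haveI := (fibD_data (k := k) hX hD hF).2.1
  have hinj : IsIso f → Function.Injective (ParSh.fibDMap k X I f) := fun hi a b hab => by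
    haveI := hi
    have := congrArg (ParSh.fibDMap k X I (inv f)) hab
    rwa [← fib_comp, ← fib_comp, IsIso.hom_inv_id, fib_id, fib_id] at this
  constructor
  · intro heq
    have h1 := finrank_le_ker_add (ParSh.fibDMap k X I f) F₁
    have h2 := Submodule.finrank_mono hf
    have h3 := finrank_ker_le hX hD hE hF f
    have h1' : (Module.finrank k F₁ : ℝ) ≤
        (Module.finrank k (LinearMap.ker (ParSh.fibDMap k X I f)) : ℝ) + (Module.finrank k F₁' : ℝ) := by
      exact_mod_cast h1.trans (Nat.add_le_add_left h2 _)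
    have h3' := (Int.cast_le (R := ℝ)).2 h3
    push_cast at h3'
    unfold ParSh.gpDeg ParSh.gpWt at heq
    have hdd : ((Curv2.deg k X E n : ℤ) : ℝ) = Curv2.deg k X F n := by
      have hge : ((Curv2.deg k X E n : ℤ) : ℝ) ≤ Curv2.deg k X F n := by
        exact_mod_cast (deg_le_of_mono hX.like hE hF f).1
      nlinarith [mul_le_mul_of_nonneg_left h1' hα0, mul_le_mul_of_nonneg_left h3' hα0]
    have hdd' : Curv2.deg k X E n = Curv2.deg k X F n := by exact_mod_cast hdd
    haveI hiso := (deg_le_of_mono hX.like hE hF f).2 hdd'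
    refine ⟨hiso, fun hpos => Submodule.eq_of_le_of_finrank_eq hf ?_⟩
    rw [← (Submodule.equivMapOfInjective _ (hinj hiso) F₁).finrank_eq]
    rw [hdd] at heq
    have h5 : (Module.finrank k F₁ : ℝ) = Module.finrank k F₁' :=
      mul_left_cancel₀ hpos.ne' (by linarith)
    exact_mod_cast h5
  · rintro ⟨hiso, hmap⟩
    haveI := hiso
    have hd : Curv2.deg k X E n = Curv2.deg k X F n := deg_iso (asIso f)
    unfold ParSh.gpDeg ParSh.gpWt
    rcases eq_or_lt_of_le hα0 with h | h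
    · rw [← h, hd]; simp
    · rw [hd, ← hmap h, ← (Submodule.equivMapOfInjective _ (hinj hiso) F₁).finrank_eq]

/-- The parabolic degree is subadditive on a short exact sequence of bundles. -/
theorem gpDeg_le_add {α : ℝ} (hα0 : 0 ≤ α) {rK rG r : ℕ} {K E G : X.Modules} (ι : K ⟶ E) (π : E ⟶ G)
    (w : ι ≫ π = 0) (hS : (ShortComplex.mk ι π w).ShortExact)
    (hK : FlatMod.IsFinLocFreeOfRank rK K) (hE : FlatMod.IsFinLocFreeOfRank r E)
    (hG : FlatMod.IsFinLocFreeOfRank rG G) (F₁ : Submodule k (ParSh.fibD X I E)) :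
    ParSh.gpDeg k X α E F₁ r ≤
      ParSh.gpDeg k X α K (ParSh.gpInduced k X I ι F₁) rK +
        ParSh.gpDeg k X α G (ParSh.gpCoinduced k X I π F₁) rG := by
  haveI := hX.like.noetherian
  obtain ⟨-, hfE, hdE⟩ := fibD_data (k := k) hX hD hE
  obtain ⟨-, hfK, hdK⟩ := fibD_data (k := k) hX hD hK
  obtain ⟨-, hfG, hdG⟩ := fibD_data (k := k) hX hD hG
  haveI := hfE; haveI := hfK; haveI := hfG
  have hr : r = rK + rG := rank_add hS hK hE hG
  haveI : Epi π := hS.epi_g
  have hinj := fibDMap_injective (k := k) (I := I) hX ι π w hS hG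
  have hsurj := fibDMap_surjective (k := k) (I := I) hX hD hE π
  have hle : LinearMap.range (ParSh.fibDMap k X I ι) ≤ LinearMap.ker (ParSh.fibDMap k X I π) := by
    rintro _ ⟨z, rfl⟩
    rw [LinearMap.mem_ker, ← fib_comp, w, fib_zero]
  have hker : LinearMap.range (ParSh.fibDMap k X I ι) = LinearMap.ker (ParSh.fibDMap k X I π) := by
    refine Submodule.eq_of_le_of_finrank_eq hle ?_
    have h1 := (ParSh.fibDMap k X I π).finrank_range_add_finrank_ker
    rw [LinearMap.range_eq_top.2 hsurj, finrank_top, hdG, hdE, hr, add_mul] at h1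
    rw [LinearMap.finrank_range_of_inj hinj, hdK]
    omega
  have h1 := (ParSh.fibDMap k X I π).domRestrict F₁ |>.finrank_range_add_finrank_ker
  have hrange : LinearMap.range ((ParSh.fibDMap k X I π).domRestrict F₁) = ParSh.gpCoinduced k X I π F₁ := by
    ext w; simp [ParSh.gpCoinduced, Submodule.mem_map]
  have hk2 : Module.finrank k (LinearMap.ker ((ParSh.fibDMap k X I π).domRestrict F₁)) ≤
      Module.finrank k (ParSh.gpInduced k X I ι F₁) := by
    rw [(Submodule.equivMapOfInjective (ParSh.fibDMap k X I ι) hinj (ParSh.gpInduced k X I ι F₁)).finrank_eq]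
    refine LinearMap.finrank_le_finrank_of_injective
      (f := ((F₁.subtype.comp (LinearMap.ker ((ParSh.fibDMap k X I π).domRestrict F₁)).subtype).codRestrict
        ((ParSh.gpInduced k X I ι F₁).map (ParSh.fibDMap k X I ι)) fun z => ?_))
      fun a b hab => Subtype.ext (Subtype.ext (congrArg Subtype.val hab :))
    have hz : ((z : F₁) : ParSh.fibD X I E) ∈ LinearMap.range (ParSh.fibDMap k X I ι) := hker ▸ z.2
    obtain ⟨y, hy⟩ := hz
    exact ⟨y, show ParSh.fibDMap k X I ι y ∈ F₁ from hy ▸ (z : F₁).2, hy⟩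
  rw [hrange] at h1
  have hd : Curv2.deg k X E r = Curv2.deg k X K rK + Curv2.deg k X G rG := deg_add hX.like hS hK hE hG
  have h4 : (Module.finrank k F₁ : ℝ) ≤ (Module.finrank k (ParSh.gpInduced k X I ι F₁) : ℝ) +
      (Module.finrank k (ParSh.gpCoinduced k X I π F₁) : ℝ) := by
    exact_mod_cast (by omega : Module.finrank k F₁ ≤ Module.finrank k (ParSh.gpInduced k X I ι F₁) +
      Module.finrank k (ParSh.gpCoinduced k X I π F₁))
  unfold ParSh.gpDeg ParSh.gpWt
  rw [hd]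
  push_cast
  nlinarith [mul_le_mul_of_nonneg_left h4 hα0]

theorem gpDeg_induced_zero {α : ℝ} {E K : X.Modules} (hK : FlatMod.IsFinLocFreeOfRank 0 K) (ι : K ⟶ E)
    (F₁ : Submodule k (ParSh.fibD X I E)) :
    ParSh.gpDeg k X α K (ParSh.gpInduced k X I ι F₁) 0 = 0 := by
  haveI := hX.like.noetherian
  obtain ⟨-, hf, hd⟩ := fibD_data (k := k) hX hD hK
  haveI := hf
  have h := Submodule.finrank_le (ParSh.gpInduced k X I ι F₁)
  rw [hd, zero_mul, Nat.le_zero] at h
  unfold ParSh.gpDeg ParSh.gpWt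
  rw [h, deg_rank_zero hX.like hK]
  simp

/-- The numbers attached to a nonzero morphism of semistable bundles of one slope. -/
theorem map_eq {α : ℝ} (hα0 : 0 ≤ α) {E F : X.Modules} {n m : ℕ} (hm : 0 < m)
    (hE : FlatMod.IsFinLocFreeOfRank n E) (hF : FlatMod.IsFinLocFreeOfRank m F)
    (F₁ : Submodule k (ParSh.fibD X I E)) (F₁' : Submodule k (ParSh.fibD X I F))
    (hEss : ParSh.IsGPSemistable k X I α F₁ n) (hFss : ParSh.IsGPSemistable k X I α F₁' m)
    (hμ : ParSh.gpDeg k X α E F₁ n * (m : ℝ) = ParSh.gpDeg k X α F F₁' m * (n : ℝ))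
    (f : E ⟶ F) (hf : ParSh.IsGPHom k X I F₁ F₁' f) (hne : f ≠ 0) :
    ∃ rK rI : ℕ, n = rK + rI ∧ 0 < rI ∧ rI ≤ m ∧ (rK = 0 ↔ Mono f) ∧
      FlatMod.IsFinLocFreeOfRank rK (kernel f) ∧ FlatMod.IsFinLocFreeOfRank rI (Abelian.image f) ∧
      ParSh.IsGPHom k X I (ParSh.gpCoinduced k X I (Abelian.factorThruImage f) F₁) F₁' (Abelian.image.ι f) ∧
      ParSh.gpDeg k X α (kernel f) (ParSh.gpInduced k X I (kernel.ι f) F₁) rK * (n : ℝ) =
        ParSh.gpDeg k X α E F₁ n * (rK : ℝ) ∧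
      ParSh.gpDeg k X α (Abelian.image f) (ParSh.gpCoinduced k X I (Abelian.factorThruImage f) F₁) rI * (m : ℝ) =
        ParSh.gpDeg k X α F F₁' m * (rI : ℝ) ∧
      ParSh.gpDeg k X α (Abelian.image f) (ParSh.gpInduced k X I (Abelian.image.ι f) F₁') rI * (m : ℝ) =
        ParSh.gpDeg k X α F F₁' m * (rI : ℝ) := by
  haveI := hX.like.noetherian
  obtain ⟨rK, rI, hK, hI, hr, hle, h0, hmono⟩ := exists_image hX.pid hE hF f
  have hI0 : 0 < rI := Nat.pos_of_ne_zero fun h => hne (h0.1 h)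
  set G := Abelian.image f
  set A := ParSh.gpDeg k X α E F₁ n
  set B := ParSh.gpDeg k X α F F₁' m
  set cI := ParSh.gpCoinduced k X I (Abelian.factorThruImage f) F₁
  have hhom : ParSh.IsGPHom k X I cI F₁' (Abelian.image.ι f) := by
    rintro _ ⟨_, ⟨z, hz, rfl⟩, rfl⟩
    rw [← fib_comp, Abelian.image.fac]
    exact hf ⟨z, hz, rfl⟩
  haveI := (fibD_data (k := k) hX hD hI).2.1
  have hci : ParSh.gpDeg k X α G cI rI ≤ ParSh.gpDeg k X α G (ParSh.gpInduced k X I (Abelian.image.ι f) F₁') rI := by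
    have h := Submodule.finrank_mono (show cI ≤ ParSh.gpInduced k X I (Abelian.image.ι f) F₁' from
      Submodule.map_le_iff_le_comap.1 hhom)
    unfold ParSh.gpDeg ParSh.gpWt
    have h' : (Module.finrank k cI : ℝ) ≤
      (Module.finrank k (ParSh.gpInduced k X I (Abelian.image.ι f) F₁') : ℝ) := by exact_mod_cast h
    nlinarith [mul_le_mul_of_nonneg_left h' hα0]
  have hsub : A ≤ ParSh.gpDeg k X α (kernel f) (ParSh.gpInduced k X I (kernel.ι f) F₁) rK +
      ParSh.gpDeg k X α G cI rI :=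
    gpDeg_le_add hX hD hα0 _ _ _ (kerSC_shortExact f) hK hE hI F₁
  have hKle : ParSh.gpDeg k X α (kernel f) (ParSh.gpInduced k X I (kernel.ι f) F₁) rK * (n : ℝ) ≤ A * (rK : ℝ) := by
    rcases Nat.eq_zero_or_pos rK with h | h
    · subst h
      rw [gpDeg_induced_zero hX hD hK]
      simp
    · exact hEss _ _ _ inferInstance h hK
  have hGle := hFss G rI (Abelian.image.ι f) inferInstance hI0 hI
  have hnR : (n : ℝ) = (rK : ℝ) + rI := by exact_mod_cast hr
  set gK := ParSh.gpDeg k X α (kernel f) (ParSh.gpInduced k X I (kernel.ι f) F₁) rK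
  set gC := ParSh.gpDeg k X α G cI rI
  set gI := ParSh.gpDeg k X α G (ParSh.gpInduced k X I (Abelian.image.ι f) F₁') rI
  have hn0 : (0 : ℝ) < n := by exact_mod_cast (by omega : 0 < n)
  have hm0 : (0 : ℝ) < m := by exact_mod_cast hm
  have e1 : A * rI ≤ gC * n := by
    have := mul_le_mul_of_nonneg_right hsub hn0.le
    rw [hnR] at this hKle ⊢
    nlinarith
  have e2 : B * rI ≤ gC * m := by
    refine le_of_mul_le_mul_left ?_ hn0
    calc (n : ℝ) * (B * rI) = A * rI * m := by linear_combination (-(rI : ℝ)) * hμ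
      _ ≤ gC * n * m := mul_le_mul_of_nonneg_right e1 hm0.le
      _ = (n : ℝ) * (gC * m) := by ring
  have e3 : gC * m = B * rI := le_antisymm ((mul_le_mul_of_nonneg_right hci hm0.le).trans hGle) e2
  have e4 : gC * n = A * rI := by
    refine mul_right_cancel₀ hm0.ne' ?_
    linear_combination (n : ℝ) * e3 - (rI : ℝ) * hμ
  refine ⟨rK, rI, hr, hI0, hle, hmono, hK, hI, hhom, le_antisymm hKle ?_, e3,
    le_antisymm hGle (e3 ▸ mul_le_mul_of_nonneg_right hci hm0.le)⟩
  have := mul_le_mul_of_nonneg_right hsub hn0.le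
  rw [hnR] at this e4 ⊢
  nlinarith

theorem exists_rank_cokernel {α : ℝ} (hα0 : 0 ≤ α) (hα1 : α < 1) {E F : X.Modules} {n m : ℕ} (hm : 0 < m)
    (hE : FlatMod.IsFinLocFreeOfRank n E) (hF : FlatMod.IsFinLocFreeOfRank m F)
    (F₁ : Submodule k (ParSh.fibD X I E)) (F₁' : Submodule k (ParSh.fibD X I F))
    (hEss : ParSh.IsGPSemistable k X I α F₁ n) (hFss : ParSh.IsGPSemistable k X I α F₁' m)
    (hμ : ParSh.gpDeg k X α E F₁ n * (m : ℝ) = ParSh.gpDeg k X α F F₁' m * (n : ℝ))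
    (f : E ⟶ F) (hf : ParSh.IsGPHom k X I F₁ F₁' f) :
    ∃ r₀ : ℕ, FlatMod.IsFinLocFreeOfRank r₀ (cokernel f) := by
  rcases eq_or_ne f 0 with rfl | hne
  · exact ⟨m, Groth.Agent.M2.isFinLocFreeOfRank_of_iso (cokernelZeroIsoTarget (X := E) (Y := F)).symm hF⟩
  obtain ⟨rK, rI, -, hI0, -, -, -, hI, hhom, -, -, hIeq⟩ := map_eq hX hD hα0 hm hE hF F₁ F₁' hEss hFss hμ f hf hne
  have hlf : FlatMod.IsFinLocFree (cokernel (Abelian.image.ι f)) := by
    refine isFinLocFree_cokernel_factor hX hF hI (Abelian.image.ι f) fun P j u hj hP hu => ?_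
    haveI := hj
    haveI : Mono u := mono_of_mono_fac hu
    have hgp : ParSh.IsGPHom k X I (ParSh.gpInduced k X I (Abelian.image.ι f) F₁') (ParSh.gpInduced k X I j F₁') u := by
      rintro _ ⟨z, hz, rfl⟩
      show ParSh.fibDMap k X I j _ ∈ F₁'
      rw [← fib_comp, hu]
      exact hz
    have h1 := gpDeg_le_of_mono hX hD hα0 hα1.le hI hP _ _ u hgp
    have h2 := hFss P rI j hj hI0 hP
    rw [← hIeq] at h2
    have heq := le_antisymm h1 (le_of_mul_le_mul_right h2 (by exact_mod_cast hm))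
    obtain ⟨hiso, -⟩ := (gpDeg_eq_iff hX hD hα0 hα1 hI hP _ _ u hgp).1 heq
    haveI := hiso
    exact (deg_iso (asIso u)).ge
  obtain ⟨r₀, hr₀⟩ := exists_rank_of_isFinLocFree hlf
  have e : cokernel (Abelian.image.ι f) ≅ cokernel f :=
    (cokernelEpiComp (Abelian.factorThruImage f) (Abelian.image.ι f)).symm ≪≫
      cokernelIsoOfEq (Abelian.image.fac f)
  exact ⟨r₀, Groth.Agent.M2.isFinLocFreeOfRank_of_iso e hr₀⟩

theorem iso_or_zero {α : ℝ} (hα0 : 0 ≤ α) (hα1 : α < 1) {E F : X.Modules} {n m : ℕ} (hn : 0 < n) (hm : 0 < m)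
    (hE : FlatMod.IsFinLocFreeOfRank n E) (hF : FlatMod.IsFinLocFreeOfRank m F)
    (F₁ : Submodule k (ParSh.fibD X I E)) (F₁' : Submodule k (ParSh.fibD X I F))
    (hEss : ParSh.IsGPSemistable k X I α F₁ n) (hEst : ParSh.IsGPStable k X I α F₁ n)
    (hFss : ParSh.IsGPSemistable k X I α F₁' m) (hFst : ParSh.IsGPStable k X I α F₁' m)
    (hμ : ParSh.gpDeg k X α E F₁ n * (m : ℝ) = ParSh.gpDeg k X α F F₁' m * (n : ℝ))
    (f : E ⟶ F) (hf : ParSh.IsGPHom k X I F₁ F₁' f) :
    f = 0 ∨ (IsIso f ∧ (0 < α → Submodule.map (ParSh.fibDMap k X I f) F₁ = F₁')) := by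
  rcases eq_or_ne f 0 with hne | hne
  · exact Or.inl hne
  obtain ⟨rK, rI, hr, hI0, hle, hmono, hK, hI, -, hKeq, -, hIeq⟩ :=
    map_eq hX hD hα0 hm hE hF F₁ F₁' hEss hFss hμ f hf hne
  have hK0 : rK = 0 := by
    by_contra h
    exact absurd hKeq (hEst _ rK (kernel.ι f) inferInstance (Nat.pos_of_ne_zero h) (by omega) hK).ne
  have hIm : rI = m := by
    by_contra h
    exact absurd hIeq (hFst _ rI (Abelian.image.ι f) inferInstance hI0 (lt_of_le_of_ne hle h) hI).ne
  haveI : Mono f := hmono.1 hK0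
  obtain rfl : n = m := by omega
  refine Or.inr ((gpDeg_eq_iff hX hD hα0 hα1 hE hF F₁ F₁' f hf).1 ?_)
  exact mul_right_cancel₀ (by exact_mod_cast hn.ne') hμ

theorem exists_smul [IsAlgClosed k] [LocallyOfFiniteType (X ↘ Spec (CommRingCat.of k))]
    {α : ℝ} (hα0 : 0 ≤ α) (hα1 : α < 1) {E : X.Modules} {n : ℕ} (hn : 0 < n)
    (hE : FlatMod.IsFinLocFreeOfRank n E) (F₁ : Submodule k (ParSh.fibD X I E))
    (hEss : ParSh.IsGPSemistable k X I α F₁ n) (hEst : ParSh.IsGPStable k X I α F₁ n)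
    (f : E ⟶ E) (hf : ParSh.IsGPHom k X I F₁ F₁ f) : ∃ c : k, f = Formal.smulMod k E c := by
  obtain ⟨c, hc⟩ := exists_scalar_not_isIso (k := k) hn hE f
  refine ⟨c, ?_⟩
  have hg : ParSh.IsGPHom k X I F₁ F₁ (Formal.smulMod k E c - f) := by
    rintro _ ⟨z, hz, rfl⟩
    rw [fib_sub_smul]
    exact F₁.sub_mem (F₁.smul_mem c hz) (hf ⟨z, hz, rfl⟩)
  rcases iso_or_zero hX hD hα0 hα1 hn hn hE hE F₁ F₁ hEss hEst hEss hEst rfl _ hg with h | h
  · exact (sub_eq_zero.1 h).symm
  · exact absurd h.1 hc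

/-- Stable gives semistable. -/
theorem ss_of_st {α : ℝ} (hα0 : 0 ≤ α) (hα1 : α ≤ 1) {E : X.Modules} {n : ℕ}
    (hE : FlatMod.IsFinLocFreeOfRank n E) (F₁ : Submodule k (ParSh.fibD X I E))
    (hst : ParSh.IsGPStable k X I α F₁ n) : ParSh.IsGPSemistable k X I α F₁ n := by
  intro F r' i hi h0 hF
  haveI := hi
  rcases (rank_le_of_mono hX hE hF i).lt_or_eq with h | h
  · exact (hst F r' i hi h0 h hF).le
  · subst h
    exact mul_le_mul_of_nonneg_right
      (gpDeg_le_of_mono hX hD hα0 hα1 hF hE _ F₁ i (Submodule.map_comap_le _ _)) (by positivity)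

theorem stable_one_of_coprime {E : X.Modules} {n : ℕ} (hE : FlatMod.IsFinLocFreeOfRank n E)
    (F₁ : Submodule k (ParSh.fibD X I E)) (hcop : IsCoprime (n : ℤ) (Curv2.deg k X E n)) (a : ℕ)
    (ha : Module.finrank k F₁ = a * n) (hss : ParSh.IsGPSemistable k X I 1 F₁ n) :
    ParSh.IsGPStable k X I 1 F₁ n := by
  intro F r' i hi h0 hlt hF
  refine lt_of_le_of_ne (hss F r' i hi h0 hF) fun heq => ?_
  unfold ParSh.gpDeg ParSh.gpWt at heq
  rw [ha] at heq
  have h : (Curv2.deg k X F r' + (Module.finrank k (ParSh.gpInduced k X I i F₁) : ℤ)) * n =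
      (Curv2.deg k X E n + (a : ℤ) * n) * r' := by
    have h' : (((Curv2.deg k X F r' + (Module.finrank k (ParSh.gpInduced k X I i F₁) : ℤ)) * n : ℤ) : ℝ) =
        (((Curv2.deg k X E n + (a : ℤ) * n) * r' : ℤ) : ℝ) := by
      push_cast at heq ⊢
      linarith
    exact_mod_cast h'
  have hdvd : (n : ℤ) ∣ Curv2.deg k X E n * r' :=
    ⟨Curv2.deg k X F r' + (Module.finrank k (ParSh.gpInduced k X I i F₁) : ℤ) - a * r', by linear_combination -h⟩
  have h2 : (n : ℤ) ∣ (r' : ℤ) := hcop.dvd_of_dvd_mul_left hdvd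
  have := Nat.le_of_dvd h0 (Int.natCast_dvd_natCast.1 h2)
  omega

end

end Groth.Agent.GPStab28
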