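import Mathlib.Data.Real.Basic
import Mathlib.Algebra.BigOperators.Intervals
import Mathlib.Tactic

/-! # Comparison of two weighted step sums -/

set_option autoImplicit false

namespace Groth.Agent.GPStab28

theorem clamp_comm {a b c d : ℝ} (h₁ : a ≤ b) (h₂ : c ≤ d) :
    max a (min b d) - max a (min b c) = max c (min d b) - max c (min d a) := by
  simp only [max_def, min_def]
  split_ifs <;> linarith

theorem mono_upto {n : ℕ} {W : ℕ → ℝ} (h : ∀ j < n, W j ≤ W (j + 1)) :
    ∀ {a b : ℕ}, a ≤ b → b ≤ n → W a ≤ W b := by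
  intro a b hab hb
  induction b, hab using Nat.le_induction with
  | base => exact le_rfl
  | succ b _ ih => exact (ih (by omega)).trans (h b (by omega))

/-- `Σ (W (j+1) - W j) f j ≤ Σ (V (i+1) - V i) g i` when `f ≤ g` on overlapping steps. -/
theorem step_le {n m : ℕ} {W V f g : ℕ → ℝ} (hW : ∀ j < n, W j ≤ W (j + 1)) (hV : ∀ i < m, V i ≤ V (i + 1))
    (h₀ : W 0 = V 0) (h₁ : W n = V m)
    (hfg : ∀ j < n, ∀ i < m, W j < V (i + 1) → V i < W (j + 1) → f j ≤ g i) :
    ∑ j ∈ Finset.range n, (W (j + 1) - W j) * f j ≤ ∑ i ∈ Finset.range m, (V (i + 1) - V i) * g i := by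
  set c : ℕ → ℕ → ℝ := fun j i =>
    max (W j) (min (W (j + 1)) (V (i + 1))) - max (W j) (min (W (j + 1)) (V i)) with hc
  have hj : ∀ j < n, ∑ i ∈ Finset.range m, c j i = W (j + 1) - W j := by
    intro j hj
    rw [Finset.sum_range_sub (fun i => max (W j) (min (W (j + 1)) (V i))) m]
    have a1 : V 0 ≤ W j := h₀ ▸ mono_upto hW (Nat.zero_le j) hj.le
    have a2 : W (j + 1) ≤ V m := h₁ ▸ mono_upto hW hj le_rfl
    show max (W j) (min (W (j + 1)) (V m)) - max (W j) (min (W (j + 1)) (V 0)) = _
    rw [min_eq_left a2, max_eq_right (hW j hj), max_eq_left ((min_le_right _ _).trans a1)]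
  have hi : ∀ i < m, ∑ j ∈ Finset.range n, c j i = V (i + 1) - V i := by
    intro i hi
    have e : ∀ j ∈ Finset.range n, c j i =
        max (V i) (min (V (i + 1)) (W (j + 1))) - max (V i) (min (V (i + 1)) (W j)) :=
      fun j hj => clamp_comm (hW j (Finset.mem_range.1 hj)) (hV i hi)
    rw [Finset.sum_congr rfl e, Finset.sum_range_sub (fun j => max (V i) (min (V (i + 1)) (W j))) n]
    have a1 : W 0 ≤ V i := h₀ ▸ mono_upto hV (Nat.zero_le i) hi.le
    have a2 : V (i + 1) ≤ W n := h₁ ▸ mono_upto hV hi le_rfl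
    show max (V i) (min (V (i + 1)) (W n)) - max (V i) (min (V (i + 1)) (W 0)) = _
    rw [min_eq_left a2, max_eq_right (hV i hi), max_eq_left ((min_le_right _ _).trans a1)]
  have key : ∀ j < n, ∀ i < m, c j i * f j ≤ c j i * g i := by
    intro j hj i hi
    by_cases h1 : W j < V (i + 1)
    · by_cases h2 : V i < W (j + 1)
      · refine mul_le_mul_of_nonneg_left (hfg j hj i hi h1 h2) ?_
        exact sub_nonneg.2 (max_le_max le_rfl (min_le_min le_rfl (hV i hi)))
      · push Not at h2
        have : c j i = 0 := by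
          simp only [hc]
          rw [min_eq_left h2, min_eq_left (h2.trans (hV i hi)), sub_self]
        rw [this]; simp
    · push Not at h1
      have : c j i = 0 := by
        simp only [hc]
        rw [max_eq_left ((min_le_right _ _).trans h1),
          max_eq_left ((min_le_right _ _).trans ((hV i hi).trans h1)), sub_self]
      rw [this]; simp
  calc ∑ j ∈ Finset.range n, (W (j + 1) - W j) * f j
      = ∑ j ∈ Finset.range n, ∑ i ∈ Finset.range m, c j i * f j :=
        Finset.sum_congr rfl fun j hj' => by rw [← Finset.sum_mul, hj j (Finset.mem_range.1 hj')]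
    _ ≤ ∑ j ∈ Finset.range n, ∑ i ∈ Finset.range m, c j i * g i :=
        Finset.sum_le_sum fun j hj' => Finset.sum_le_sum fun i hi' =>
          key j (Finset.mem_range.1 hj') i (Finset.mem_range.1 hi')
    _ = ∑ i ∈ Finset.range m, (V (i + 1) - V i) * g i := by
        rw [Finset.sum_comm]
        exact Finset.sum_congr rfl fun i hi' => by rw [← Finset.sum_mul, hi i (Finset.mem_range.1 hi')]

/-- Abel summation. -/
theorem step_abel (n : ℕ) (W f : ℕ → ℝ) :
    ∑ j ∈ Finset.range (n + 1), (W (j + 1) - W j) * f j =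
      (∑ j ∈ Finset.range n, W (j + 1) * (f j - f (j + 1))) + W (n + 1) * f n - W 0 * f 0 := by
  induction n with
  | zero => simp; ring
  | succ n ih => rw [Finset.sum_range_succ, ih, Finset.sum_range_succ]; ring

end Groth.Agent.GPStab28
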