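import Groth.Agent.Lib.GPStab28.Key
import Groth.Agent.Lib.GPStab28.ParArith
import Groth.Agent.Lib.VB17.Line
import Groth.Agent.Lib.TensorMod.Invertible
import Groth.Prelude.Def_ParBun

/-! # Parabolic degrees and maps of full rank -/

set_option autoImplicit false
set_option backward.isDefEq.respectTransparency.types false
set_option linter.style.haveILetI false
set_option maxHeartbeats 1000000

universe u

open CategoryTheory TopologicalSpace CategoryTheory.Limits AlgebraicGeometry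

namespace Groth.Agent.GPStab28

open Groth.Agent.M1 Groth.Agent.M2 Groth.Agent.CurveCoh17 Groth.Agent.VB17

variable {k : Type u} [Field k] {X : Scheme.{u}} [X.Over (Spec (CommRingCat.of k))]
variable {I : X.IdealSheafData}

section Sandwich

/-- A module between `A` and `V`, where `A → V` is an isomorphism outside a finite set. -/
theorem sandwich {A P V : X.Modules} (j : A ⟶ P) (g : P ⟶ V) [Mono j] [Mono g] (hA : Adm k A) (hV : Adm k V)
    {S : Finset X} (hS : ∀ x ∈ S, IsClosed ({x} : Set X))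
    (h : ∀ x ∉ S, Function.Surjective (stalkLin (j ≫ g) x)) :
    Adm k P ∧ Curv2.euler k X A ≤ Curv2.euler k X P := by
  have hginj := (mono_iff_stalk g).1 inferInstance
  have hjs : ∀ x ∉ S, Function.Surjective (stalkLin j x) := fun x hx b => by
    obtain ⟨a, ha⟩ := h x hx (stalkLin g x b)
    rw [stalkLin_comp] at ha
    exact ⟨a, hginj x ha⟩
  have hK : SuppIn (kernel (j ≫ g)) S :=
    ⟨hS, fun x _ => eq_zero_stalk_kernel (j ≫ g) x ((mono_iff_stalk (j ≫ g)).1 inferInstance x)⟩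
  have hC : SuppIn (cokernel (j ≫ g)) S := ⟨hS, fun x hx => eq_zero_stalk_cokernel (j ≫ g) x (h x hx)⟩
  obtain ⟨-, hfin, -⟩ := euler_sub (j ≫ g) hA hV hK hC
  have hCj : SuppIn (cokernel j) S := ⟨hS, fun x hx => eq_zero_stalk_cokernel j x (hjs x hx)⟩
  let ψ : cokernel j ⟶ cokernel (j ≫ g) := cokernel.desc j (g ≫ cokernel.π (j ≫ g)) (by
    rw [← Category.assoc, cokernel.condition])
  haveI : Mono ψ := by
    rw [mono_iff_stalk]
    intro x
    rw [injective_iff_map_eq_zero]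
    intro a ha
    obtain ⟨e, rfl⟩ := (epi_iff_stalk (cokernel.π j)).1 inferInstance x a
    change stalkLin ψ x (stalkLin (cokernel.π j) x e) = 0 at ha
    change stalkLin (cokernel.π j) x e = 0
    rw [← stalkLin_comp, cokernel.π_desc, stalkLin_comp] at ha
    obtain ⟨c, hc⟩ := (exact_iff_stalk_eq_zero _).1 (ShortComplex.exact_cokernel (j ≫ g)) x (stalkLin g x e) ha
    have hce : stalkLin j x c = e := hginj x ((stalkLin_comp j g x c).symm.trans hc)
    refine (congrArg (stalkLin (cokernel.π j) x) hce).symm.trans ((stalkLin_comp j (cokernel.π j) x c).symm.trans ?_)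
    rw [cokernel.condition]
    show (stalkAb x).map (0 : A ⟶ cokernel j) c = 0
    rw [Functor.map_zero]
    rfl
  haveI := hfin
  have hfj : Module.Finite k (Coh.HH X (cokernel j) 0) :=
    Module.Finite.of_injective (hmap k ψ 0) (hmap_injective ψ)
  have hse : (ShortComplex.mk j (cokernel.π j) (cokernel.condition j)).ShortExact :=
    { exact := ShortComplex.exact_cokernel j
      mono_f := inferInstance
      epi_g := inferInstance }
  have hC' : Adm k (cokernel j) := hCj.adm hfj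
  refine ⟨adm₂ hse hA hC', ?_⟩
  have he := euler_add hse hA hC'
  change Curv2.euler k X P = Curv2.euler k X A + Curv2.euler k X (cokernel j) at he
  rw [he, hCj.euler_eq hfj]
  exact le_add_of_nonneg_right (Int.natCast_nonneg _)

end Sandwich

section Index

variable {E : X.Modules} (𝓔 : ParSh.Str E)

/-- The weights, shifted by one, with `0` in front. -/
noncomputable def wN : ℕ → ℝ
  | 0 => 0
  | n + 1 => 𝓔.wtX ⟨min n (𝓔.l + 1), by omega⟩

/-- The pieces, indexed by natural numbers. -/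
noncomputable def pN (n : ℕ) : Subobject E := 𝓔.pieceX ⟨min n (𝓔.l + 1), by omega⟩

theorem wN_succ (j : Fin (𝓔.l + 1)) : wN 𝓔 ((j : ℕ) + 1) = 𝓔.wt j := by
  rw [← 𝓔.wtX_castSucc j]
  exact congrArg 𝓔.wtX (Fin.ext (min_eq_left (by have := j.2; omega)))

theorem wN_last : wN 𝓔 (𝓔.l + 2) = 1 := by
  rw [← 𝓔.wtX_last]
  exact congrArg 𝓔.wtX (Fin.ext (min_self _))

theorem pN_castSucc (j : Fin (𝓔.l + 1)) : pN 𝓔 (j : ℕ) = 𝓔.piece j := by
  rw [← 𝓔.pieceX_castSucc j]
  exact congrArg 𝓔.pieceX (Fin.ext (min_eq_left (by have := j.2; omega)))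

theorem pN_succ (j : Fin (𝓔.l + 1)) : pN 𝓔 ((j : ℕ) + 1) = 𝓔.pieceX j.succ :=
  congrArg 𝓔.pieceX (Fin.ext (min_eq_left (by have := j.2; omega)))

theorem pN_last : pN 𝓔 (𝓔.l + 1) = 𝓔.bot := by
  rw [← 𝓔.pieceX_last]
  exact congrArg 𝓔.pieceX (Fin.ext (min_self _))

theorem bot_le_pN (n : ℕ) : 𝓔.bot ≤ pN 𝓔 n := 𝓔.bot_le_pieceX _

theorem wN_mono {n : ℕ} (hn : n < 𝓔.l + 2) : wN 𝓔 n ≤ wN 𝓔 (n + 1) := by
  rcases Nat.lt_or_ge n (𝓔.l + 1) with h | h
  · refine le_of_le_of_eq ?_ (wN_succ 𝓔 ⟨n, h⟩).symm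
    cases n with
    | zero => exact 𝓔.wt_nonneg
    | succ m =>
      exact le_of_eq_of_le (wN_succ 𝓔 ⟨m, by omega⟩) (𝓔.wt_strictMono.monotone (Fin.mk_le_mk.2 (Nat.le_succ m)))
  · obtain rfl : n = 𝓔.l + 1 := by omega
    exact le_of_le_of_eq (le_of_eq_of_le (wN_succ 𝓔 (Fin.last 𝓔.l)) 𝓔.wt_lt_one.le) (wN_last 𝓔).symm

theorem wN_lt {n : ℕ} (hn : n < 𝓔.l + 2) {a : ℝ} (ha : 0 ≤ a) (h : a < wN 𝓔 (n + 1)) :
    wN 𝓔 n < wN 𝓔 (n + 1) := by
  cases n with
  | zero => exact ha.trans_lt h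
  | succ m =>
    refine lt_of_eq_of_lt (wN_succ 𝓔 ⟨m, by omega⟩) ?_
    rcases Nat.lt_or_ge (m + 1) (𝓔.l + 1) with h' | h'
    · exact lt_of_lt_of_eq (𝓔.wt_strictMono (Fin.mk_lt_mk.2 (Nat.lt_succ_self m))) (wN_succ 𝓔 ⟨m + 1, h'⟩).symm
    · obtain rfl : m = 𝓔.l := by omega
      exact lt_of_lt_of_eq 𝓔.wt_lt_one (wN_last 𝓔).symm

theorem wN_nonneg {n : ℕ} (hn : n ≤ 𝓔.l + 2) : 0 ≤ wN 𝓔 n :=
  mono_upto (W := wN 𝓔) (fun i hi => wN_mono 𝓔 hi) (Nat.zero_le n) hn

theorem at_eq_pN {n : ℕ} (hn : n < 𝓔.l + 2) {a : ℝ} (h₁ : wN 𝓔 n < a) (h₂ : a ≤ wN 𝓔 (n + 1)) :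
    𝓔.at a = pN 𝓔 n := by
  have hlt : ∀ j : Fin (𝓔.l + 1), (j : ℕ) < n → 𝓔.wt j < a := fun j hj => by
    rw [← wN_succ]
    exact (mono_upto (W := wN 𝓔) (fun i hi => wN_mono 𝓔 hi) hj hn.le).trans_lt h₁
  rcases Nat.lt_or_ge n (𝓔.l + 1) with h | h
  · rw [show n = ((⟨n, h⟩ : Fin (𝓔.l + 1)) : ℕ) from rfl, pN_castSucc]
    exact 𝓔.at_eq_piece _ (by rw [← wN_succ]; exact h₂) fun j hj => hlt j hj
  · obtain rfl : n = 𝓔.l + 1 := by omega
    rw [pN_last]
    exact 𝓔.at_eq_bot fun j => hlt j j.2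

theorem parWt_eq :
    𝓔.parWt k X + (Curv2.euler k X (𝓔.bot : X.Modules) : ℝ) =
      ∑ j ∈ Finset.range (𝓔.l + 2),
        (wN 𝓔 (j + 1) - wN 𝓔 j) * (Curv2.euler k X (pN 𝓔 j : X.Modules) : ℝ) := by
  rw [step_abel, wN_last, pN_last, show wN 𝓔 0 = 0 from rfl, zero_mul, one_mul, sub_zero,
    Finset.sum_range (fun j => wN 𝓔 (j + 1) * ((Curv2.euler k X (pN 𝓔 j : X.Modules) : ℝ) -
      Curv2.euler k X (pN 𝓔 (j + 1) : X.Modules)))]
  congr 1
  exact Finset.sum_congr rfl fun j _ => by rw [wN_succ, pN_castSucc, pN_succ]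

theorem pieceX_induced' {F : X.Modules} (i : F ⟶ E) (j : Fin (𝓔.l + 2)) :
    (𝓔.induced i).pieceX j = (Subobject.pullback i).obj (𝓔.pieceX j) := by
  induction j using Fin.lastCases with
  | last => rw [ParSh.Str.pieceX_last]; exact (𝓔.induced i).pieceX_last
  | cast j => rw [ParSh.Str.pieceX_castSucc]; exact (𝓔.induced i).pieceX_castSucc j

theorem pieceX_coinduced' {G : X.Modules} (p : E ⟶ G) [Epi p] (j : Fin (𝓔.l + 2)) :
    (𝓔.coinduced p).pieceX j = imageSubobject ((𝓔.pieceX j).arrow ≫ p) := by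
  induction j using Fin.lastCases with
  | last => rw [ParSh.Str.pieceX_last]; exact (𝓔.coinduced p).pieceX_last
  | cast j => rw [ParSh.Str.pieceX_castSucc]; exact (𝓔.coinduced p).pieceX_castSucc j

end Index

section Twist

omit [X.Over (Spec (CommRingCat.of k))] in
theorem twistMap_natural {M N : X.Modules} (f : M ⟶ N) :
    tensorMap f (𝟙 (ClSub.idealMod I)) ≫ ParSh.twistMap I N = ParSh.twistMap I M ≫ f := by
  have hu : ∀ A : X.Modules, (SecTwist.unitorR A).hom = (tensorRUnit A).hom := fun A => rfl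
  unfold ParSh.twistMap
  rw [kosz_tensorMap, kosz_tensorMap, hu, hu, Category.assoc, ← tensorRUnit_natural f, ← Category.assoc,
    ← Category.assoc, ← tensorMap_comp, ← tensorMap_comp]
  simp only [Category.id_comp, Category.comp_id]

omit [X.Over (Spec (CommRingCat.of k))] in
theorem mono_twistMap {r : ℕ} {E : X.Modules} (hE : FlatMod.IsFinLocFreeOfRank r E) :
    Mono (ParSh.twistMap I E) := by
  have h := shortExact_tensorR (shortExact_idealMod I) E fun x => Module.Flat.of_linearEquiv (nonempty_stalk_equiv hE x).some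
  have h1 : Mono (tensorMap (ClSub.idealModι I) (𝟙 E)) := h.mono_f
  have h2 : KoszTw.tensorMap (𝟙 E) (ClSub.idealModι I) =
      (tensorComm E (ClSub.idealMod I)).hom ≫ tensorMap (ClSub.idealModι I) (𝟙 E) ≫
        (tensorComm E (Coh.structureModule X)).inv := by
    rw [kosz_tensorMap, ← Category.assoc, Iso.eq_comp_inv]
    exact tensorComm_natural (𝟙 E) (ClSub.idealModι I)
  unfold ParSh.twistMap
  rw [h2]
  infer_instance

omit [X.Over (Spec (CommRingCat.of k))] in
/-- The image of `I · E` in a locally free quotient. -/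
theorem exists_bot_coinduced {r : ℕ} {E V : X.Modules} (hV : FlatMod.IsFinLocFreeOfRank r V) (q : E ⟶ V) [Epi q] :
    ∃ d : CohB1.tensorMod V (ClSub.idealMod I) ≅
        (imageSubobject ((imageSubobject (ParSh.twistMap I E)).arrow ≫ q) : X.Modules),
      d.hom ≫ (imageSubobject ((imageSubobject (ParSh.twistMap I E)).arrow ≫ q)).arrow = ParSh.twistMap I V := by
  haveI := mono_twistMap (I := I) hV
  set B := imageSubobject ((imageSubobject (ParSh.twistMap I E)).arrow ≫ q) with hB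
  let e : CohB1.tensorMod E (ClSub.idealMod I) ⟶ (B : X.Modules) :=
    factorThruImageSubobject (ParSh.twistMap I E) ≫ factorThruImageSubobject ((imageSubobject (ParSh.twistMap I E)).arrow ≫ q)
  haveI : Epi e := epi_comp _ _
  haveI : StrongEpi e := strongEpi_of_epi e
  have he : e ≫ B.arrow = tensorMap q (𝟙 (ClSub.idealMod I)) ≫ ParSh.twistMap I V := by
    rw [twistMap_natural]
    simp only [e, Category.assoc]
    have h1 := imageSubobject_arrow_comp ((imageSubobject (ParSh.twistMap I E)).arrow ≫ q)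
    rw [h1, ← Category.assoc]
    exact congrArg (· ≫ q) (imageSubobject_arrow_comp (ParSh.twistMap I E))
  have hsq : CommSq (tensorMap q (𝟙 (ClSub.idealMod I))) e (ParSh.twistMap I V) B.arrow := ⟨he.symm⟩
  haveI := StrongEpi.llp (f := e) (ParSh.twistMap I V)
  let d : (B : X.Modules) ⟶ CohB1.tensorMod V (ClSub.idealMod I) :=
    hsq.lift
  have hd₁ : e ≫ d = tensorMap q (𝟙 _) := hsq.fac_left
  have hd₂ : d ≫ ParSh.twistMap I V = B.arrow := hsq.fac_right
  haveI : Mono d := mono_of_mono_fac hd₂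
  haveI : Epi (tensorMap q (𝟙 (ClSub.idealMod I))) := (epi_iff_stalk _).2 fun x =>
    surjective_stalk_tensorMap q _ x ((epi_iff_stalk q).1 inferInstance x) (surjective_stalkLin_of_isIso _ x)
  haveI : Epi d := epi_of_epi_fac hd₁
  haveI : IsIso d := isIso_of_mono_of_epi d
  refine ⟨(asIso d).symm, ?_⟩
  rw [Iso.symm_hom, asIso_inv, IsIso.inv_comp_eq, hd₂]

omit [X.Over (Spec (CommRingCat.of k))] in
/-- `I · F` meets a sub-bundle `G` in `I · G`. -/
theorem exists_bot_induced {r s c : ℕ} {G F : X.Modules} (hD : FGA.IsEffCartier I)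
    (hG : FlatMod.IsFinLocFreeOfRank r G) (hF : FlatMod.IsFinLocFreeOfRank s F) (ι : G ⟶ F) [Mono ι]
    (hC : FlatMod.IsFinLocFreeOfRank c (cokernel ι)) :
    ∃ d : CohB1.tensorMod G (ClSub.idealMod I) ≅
        ((Subobject.pullback ι).obj (imageSubobject (ParSh.twistMap I F)) : X.Modules),
      d.hom ≫ ((Subobject.pullback ι).obj (imageSubobject (ParSh.twistMap I F))).arrow = ParSh.twistMap I G := by
  haveI := mono_twistMap (I := I) hG
  haveI := mono_twistMap (I := I) hF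
  haveI := mono_twistMap (I := I) hC
  have hse : (ShortComplex.mk ι (cokernel.π ι) (cokernel.condition ι)).ShortExact :=
    { exact := ShortComplex.exact_cokernel ι
      mono_f := inferInstance
      epi_g := inferInstance }
  have hT := shortExact_tensorR hse (ClSub.idealMod I) (VB17.flat_stalk (isInvertible_idealMod I hD))
  haveI := hT.mono_f
  haveI : Mono (factorThruImageSubobject (ParSh.twistMap I F)) :=
    mono_of_mono_fac (imageSubobject_arrow_comp (ParSh.twistMap I F))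
  haveI : IsIso (factorThruImageSubobject (ParSh.twistMap I F)) := isIso_of_mono_of_epi _
  set Q := (Subobject.pullback ι).obj (imageSubobject (ParSh.twistMap I F)) with hQ
  have hpb := Subobject.isPullback ι (imageSubobject (ParSh.twistMap I F))
  let a : CohB1.tensorMod G (ClSub.idealMod I) ⟶ (Q : X.Modules) :=
    hpb.lift (tensorMap ι (𝟙 _) ≫ factorThruImageSubobject (ParSh.twistMap I F)) (ParSh.twistMap I G) (by
      rw [Category.assoc]
      exact (congrArg (tensorMap ι (𝟙 _) ≫ ·) (imageSubobject_arrow_comp _)).trans (twistMap_natural ι))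
  have ha : a ≫ Q.arrow = ParSh.twistMap I G := hpb.lift_snd _ _ _
  let ψ : (Q : X.Modules) ⟶ CohB1.tensorMod F (ClSub.idealMod I) :=
    Subobject.pullbackπ ι (imageSubobject (ParSh.twistMap I F)) ≫ inv (factorThruImageSubobject (ParSh.twistMap I F))
  have hψ : ψ ≫ ParSh.twistMap I F = Q.arrow ≫ ι := by
    rw [← hpb.w]
    simp only [ψ, Category.assoc]
    congr 1
    rw [IsIso.inv_comp_eq]
    exact (imageSubobject_arrow_comp _).symm
  have hψ0 : ψ ≫ tensorMap (cokernel.π ι) (𝟙 (ClSub.idealMod I)) = 0 := by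
    rw [← cancel_mono (ParSh.twistMap I (cokernel ι)), Category.assoc, twistMap_natural, zero_comp,
      ← Category.assoc, hψ, Category.assoc, cokernel.condition, comp_zero]
  let b : (Q : X.Modules) ⟶ CohB1.tensorMod G (ClSub.idealMod I) := hT.exact.lift ψ hψ0
  have hb : b ≫ tensorMap ι (𝟙 (ClSub.idealMod I)) = ψ := hT.exact.lift_f ψ hψ0
  have hb2 : b ≫ ParSh.twistMap I G = Q.arrow := by
    rw [← cancel_mono ι, Category.assoc, ← twistMap_natural, ← Category.assoc, hb, hψ]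
  refine ⟨⟨a, b, ?_, ?_⟩, ha⟩
  · rw [← cancel_mono (ParSh.twistMap I G), Category.assoc, hb2, ha, Category.id_comp]
  · rw [← cancel_mono Q.arrow, Category.assoc, ha, hb2, Category.id_comp]

end Twist

section Degree

variable [IsIntegral X] (hX : RegCurve k X) (hD : FGA.IsEffCartier I)
include hX hD

/-- A parabolic map of full rank does not lower the parabolic degree. -/
theorem parDeg_le_of_factor {r'' s c : ℕ} {E F V V' : X.Modules}
    (𝓔 : ParSh.Str E) (h𝓔 : 𝓔.Along I) (𝓕 : ParSh.Str F) (h𝓕 : 𝓕.Along I)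
    (φ : E ⟶ F) (hφ : ParSh.IsParHom 𝓔 𝓕 φ) (q : E ⟶ V) [Epi q] (u : V ⟶ V') [Mono u]
    (ι : V' ⟶ F) [Mono ι] (hfac : q ≫ u ≫ ι = φ)
    (hV : FlatMod.IsFinLocFreeOfRank r'' V) (hV' : FlatMod.IsFinLocFreeOfRank r'' V')
    (hF : FlatMod.IsFinLocFreeOfRank s F) (hC : FlatMod.IsFinLocFreeOfRank c (cokernel ι)) :
    (𝓔.coinduced q).parDeg k X r'' ≤ (𝓕.induced ι).parDeg k X r'' := by
  haveI := hX.like.noetherian
  -- the twists by the ideal
  have hI1 : FlatMod.IsFinLocFreeOfRank 1 (ClSub.idealMod I) :=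
    (isInvertible_iff_isFinLocFreeOfRank_one _).1 (isInvertible_idealMod I hD)
  have hVI : FlatMod.IsFinLocFreeOfRank r'' (CohB1.tensorMod V (ClSub.idealMod I)) := by
    simpa using isFinLocFreeOfRank_tensor hV hI1
  have hVI' : FlatMod.IsFinLocFreeOfRank r'' (CohB1.tensorMod V' (ClSub.idealMod I)) := by
    simpa using isFinLocFreeOfRank_tensor hV' hI1
  obtain ⟨d, hd⟩ := exists_bot_coinduced (I := I) hV q
  obtain ⟨d', hd'⟩ := exists_bot_induced hD hV' hF ι hC
  haveI := mono_twistMap (I := I) hV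
  haveI := mono_twistMap (I := I) hV'
  set A := 𝓔.coinduced q with hAdef
  set B := 𝓕.induced ι with hBdef
  have hAbot : A.bot = imageSubobject ((imageSubobject (ParSh.twistMap I E)).arrow ≫ q) := by
    show imageSubobject (𝓔.bot.arrow ≫ q) = _
    rw [h𝓔]
    rfl
  have hBbot : B.bot = (Subobject.pullback ι).obj (imageSubobject (ParSh.twistMap I F)) := by
    show (Subobject.pullback ι).obj 𝓕.bot = _
    rw [h𝓕]
    rfl
  -- outside a finite set `I · V → V'` is surjective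
  have hadm : Adm k V := hX.like.adm (isCoh_of_ofRank hV)
  have hadm' : Adm k V' := hX.like.adm (isCoh_of_ofRank hV')
  let w := ParSh.twistMap I V ≫ u
  obtain ⟨S, hS⟩ := exists_suppIn_of_maximal hX.like.dim
    (M1.isCoh_cokernel (isCoh_of_ofRank hVI).1 (isCoh_of_ofRank hV') w) fun x hx =>
      eq_genericPoint_of_maximal hx ▸ eq_zero_stalk_cokernel w _
        (surjective_stalkLin_genericPoint (nonempty_stalk_equiv hVI _) (nonempty_stalk_equiv hV' _) w
          ((mono_iff_stalk w).1 inferInstance _))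
  have hwS : ∀ x ∉ S, Function.Surjective (stalkLin w x) := fun x hx b => by
    obtain ⟨a, ha⟩ := (exact_iff_stalk_eq_zero _).1 (ShortComplex.exact_cokernel w) x b (hS.zero x hx _)
    exact ⟨a, ha⟩
  have hbotS : ∀ x ∉ S, Function.Surjective (stalkLin (A.bot.arrow ≫ u) x) := by
    rw [hAbot]
    intro x hx b
    obtain ⟨a, ha⟩ := hwS x hx b
    refine ⟨stalkLin d.hom x a, ?_⟩
    rw [← stalkLin_comp, ← Category.assoc, hd]
    exact ha
  have hAb : Adm k (A.bot : X.Modules) := by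
    rw [hAbot]
    exact (hX.like.adm (isCoh_of_ofRank hVI)).of_iso d
  have hBb : Adm k (B.bot : X.Modules) := by
    rw [hBbot]
    exact (hX.like.adm (isCoh_of_ofRank hVI')).of_iso d'
  -- every piece between the bottom and `V'`
  have hpiece : ∀ n, Adm k (pN A n : X.Modules) ∧
      ∀ x ∉ S, Function.Surjective (stalkLin ((pN A n).arrow ≫ u) x) := by
    intro n
    have hs : ∀ x ∉ S, Function.Surjective (stalkLin ((pN A n).arrow ≫ u) x) := fun x hx b => by
      obtain ⟨a, ha⟩ := hbotS x hx b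
      refine ⟨stalkLin (Subobject.ofLE _ _ (bot_le_pN A n)) x a, ?_⟩
      rw [← stalkLin_comp, ← Category.assoc, Subobject.ofLE_arrow]
      exact ha
    refine ⟨(sandwich (Subobject.ofLE _ _ (bot_le_pN A n)) ((pN A n).arrow ≫ u) hAb hadm' hS.closed ?_).1, hs⟩
    intro x hx
    rw [← Category.assoc, Subobject.ofLE_arrow]
    exact hbotS x hx
  -- the comparison on overlapping steps
  have hle : ∀ j < 𝓔.l + 2, ∀ i < 𝓕.l + 2, wN A j < wN B (i + 1) → wN B i < wN A (j + 1) →
      (Curv2.euler k X (pN A j : X.Modules) : ℝ) ≤ (Curv2.euler k X (pN B i : X.Modules) : ℝ) := by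
    intro j hj i hi hji hij
    set a := min (wN A (j + 1)) (wN B (i + 1)) with ha
    have ha₁ : wN 𝓔 j < a := lt_min_iff.2 ⟨wN_lt 𝓔 hj (wN_nonneg 𝓕 hi.le) hij, hji⟩
    have ha₂ : wN 𝓕 i < a := lt_min_iff.2 ⟨hij, wN_lt 𝓕 hi (wN_nonneg 𝓔 hj.le) hji⟩
    have h0a : 0 ≤ a := (wN_nonneg 𝓔 hj.le).trans ha₁.le
    have ha1 : a ≤ 1 := (min_le_left _ _).trans
      ((mono_upto (W := wN 𝓔) (fun n hn => wN_mono 𝓔 hn) hj le_rfl).trans (wN_last 𝓔).le)
    have hfa := hφ a h0a ha1
    rw [at_eq_pN 𝓔 hj ha₁ (min_le_left _ _), at_eq_pN 𝓕 hi ha₂ (min_le_right _ _)] at hfa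
    have hAj : pN A j = imageSubobject ((pN 𝓔 j).arrow ≫ q) := pieceX_coinduced' 𝓔 q _
    have hBi : pN B i = (Subobject.pullback ι).obj (pN 𝓕 i) := pieceX_induced' 𝓕 ι _
    have hpb := Subobject.isPullback ι (pN 𝓕 i)
    let l : ((pN 𝓔 j : Subobject E) : X.Modules) ⟶ ((Subobject.pullback ι).obj (pN 𝓕 i) : X.Modules) :=
      hpb.lift ((pN 𝓕 i).factorThru _ hfa) ((pN 𝓔 j).arrow ≫ q ≫ u) (by
        rw [Subobject.factorThru_arrow, Category.assoc, Category.assoc, hfac])
    have hl : l ≫ ((Subobject.pullback ι).obj (pN 𝓕 i)).arrow = ((pN 𝓔 j).arrow ≫ q) ≫ u := by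
      rw [Category.assoc]
      exact hpb.lift_snd _ _ _
    have hpb' := Subobject.isPullback u ((Subobject.pullback ι).obj (pN 𝓕 i))
    have hsub : imageSubobject ((pN 𝓔 j).arrow ≫ q) ≤
        (Subobject.pullback u).obj ((Subobject.pullback ι).obj (pN 𝓕 i)) :=
      imageSubobject_le _ (hpb'.lift l ((pN 𝓔 j).arrow ≫ q) hl) (hpb'.lift_snd _ _ _)
    have hex : ∃ g : (pN A j : X.Modules) ⟶ (pN B i : X.Modules), g ≫ (pN B i).arrow = (pN A j).arrow ≫ u := by
      rw [hAj, hBi]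
      refine ⟨Subobject.ofLE _ _ hsub ≫ Subobject.pullbackπ u _, ?_⟩
      rw [Category.assoc, hpb'.w, ← Category.assoc, Subobject.ofLE_arrow]
    obtain ⟨g, hg⟩ := hex
    haveI : Mono g := mono_of_mono_fac hg
    obtain ⟨hA1, hA2⟩ := hpiece j
    exact Int.cast_le.2 (sandwich g (pN B i).arrow hA1 hadm' hS.closed (by rw [hg]; exact hA2)).2
  -- degrees of the twists
  have hu : Curv2.euler k X (B.bot : X.Modules) - Curv2.euler k X (A.bot : X.Modules) =
      Curv2.euler k X V' - Curv2.euler k X V := by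
    rw [hAbot, hBbot, ← euler_iso d, ← euler_iso d']
    obtain ⟨S₁, hS₁⟩ := exists_suppIn_of_maximal hX.like.dim
      (M1.isCoh_cokernel (isCoh_of_ofRank hV).1 (isCoh_of_ofRank hV') u) fun x hx =>
        eq_genericPoint_of_maximal hx ▸ eq_zero_stalk_cokernel u _
          (surjective_stalkLin_genericPoint (nonempty_stalk_equiv hV _) (nonempty_stalk_equiv hV' _) u
            ((mono_iff_stalk u).1 inferInstance _))
    have hK₁ : SuppIn (kernel u) S₁ :=
      ⟨hS₁.closed, fun x _ => eq_zero_stalk_kernel u x ((mono_iff_stalk u).1 inferInstance x)⟩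
    have h := euler_sub_tensor u hadm hadm' hK₁ hS₁ (ClSub.idealMod I) (nonempty_stalk_equiv hI1)
      (hX.like.adm (isCoh_of_ofRank hVI))
    rw [Nat.cast_one, one_mul] at h
    exact h
  have hsum := step_le (n := 𝓔.l + 2) (m := 𝓕.l + 2) (W := wN A) (V := wN B)
    (fun n hn => wN_mono A hn) (fun n hn => wN_mono B hn) rfl ((wN_last A).trans (wN_last B).symm) hle
  have hAeq := parWt_eq (k := k) A
  have hBeq := parWt_eq (k := k) B
  have hu' := congrArg (fun z : ℤ => (z : ℝ)) hu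
  simp only [Int.cast_sub] at hu'
  unfold ParSh.Str.parDeg Curv2.deg
  push_cast
  change A.parWt k X + _ = ∑ j ∈ Finset.range (𝓔.l + 2), _ at hAeq
  change B.parWt k X + _ = ∑ j ∈ Finset.range (𝓕.l + 2), _ at hBeq
  linarith

end Degree

end Groth.Agent.GPStab28
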