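import Groth.Agent.Lib.GPStab28.Par
import Groth.Agent.Lib.VB17.PairSat

/-! # Additivity of the parabolic degree -/

set_option autoImplicit false
set_option backward.isDefEq.respectTransparency.types false
set_option linter.style.haveILetI false
set_option maxHeartbeats 1000000

universe u

open CategoryTheory TopologicalSpace CategoryTheory.Limits AlgebraicGeometry

namespace Groth.Agent.GPStab28

open Groth.Agent.M1 Groth.Agent.M2 Groth.Agent.CurveCoh17 Groth.Agent.VB17

variable {k : Type u} [Field k] {X : Scheme.{u}} [X.Over (Spec (CommRingCat.of k))]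
variable {I : X.IdealSheafData}

section Comp

omit [X.Over (Spec (CommRingCat.of k))] in
theorem imageSubobject_epi_comp' {A B C : X.Modules} (e : A ⟶ B) [Epi e] (h : B ⟶ C) :
    imageSubobject (e ≫ h) = imageSubobject h := by
  haveI := imageSubobject_comp_le_epi_of_epi e h
  haveI := isIso_of_mono_of_epi (Subobject.ofLE _ _ (imageSubobject_comp_le e h))
  exact Subobject.eq_of_comm (asIso (Subobject.ofLE _ _ (imageSubobject_comp_le e h))) (Subobject.ofLE_arrow _)

omit [X.Over (Spec (CommRingCat.of k))] in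
theorem image_image {E G H : X.Modules} (P : Subobject E) (p : E ⟶ G) (q : G ⟶ H) :
    imageSubobject ((imageSubobject (P.arrow ≫ p)).arrow ≫ q) = imageSubobject (P.arrow ≫ p ≫ q) := by
  rw [← imageSubobject_epi_comp' (factorThruImageSubobject (P.arrow ≫ p))
    ((imageSubobject (P.arrow ≫ p)).arrow ≫ q), ← Category.assoc, imageSubobject_arrow_comp, Category.assoc]

theorem parWt_congr {E G : X.Modules} (𝓐 : ParSh.Str E) (𝓑 : ParSh.Str G) (hl : 𝓐.l = 𝓑.l)
    (hw : ∀ j : Fin (𝓐.l + 1), 𝓐.wt j = 𝓑.wt (Fin.cast (by rw [hl]) j))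
    (hp : ∀ j : Fin (𝓐.l + 2), Curv2.euler k X (𝓐.pieceX j : X.Modules) =
      Curv2.euler k X (𝓑.pieceX (Fin.cast (by rw [hl]) j) : X.Modules)) :
    𝓐.parWt k X = 𝓑.parWt k X := by
  refine Fintype.sum_equiv (finCongr (by rw [hl])) _ _ fun j => ?_
  rw [finCongr_apply, hw, ← 𝓐.pieceX_castSucc, hp, hp, ← 𝓑.pieceX_castSucc]
  rfl

theorem parDeg_induced_comp {A B C : X.Modules} (𝓔 : ParSh.Str C) (f : A ⟶ B) (g : B ⟶ C) (r : ℕ) :
    (𝓔.induced (f ≫ g)).parDeg k X r = ((𝓔.induced g).induced f).parDeg k X r := by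
  unfold ParSh.Str.parDeg
  congr 1
  refine parWt_congr _ _ rfl (fun j => rfl) fun j => ?_
  rw [pieceX_induced', pieceX_induced', pieceX_induced', Subobject.pullback_comp]
  rfl

theorem parDeg_coinduced_comp {A B C : X.Modules} (𝓔 : ParSh.Str A) (p : A ⟶ B) [Epi p] (q : B ⟶ C) [Epi q]
    [Epi (p ≫ q)] (r : ℕ) :
    (𝓔.coinduced (p ≫ q)).parDeg k X r = ((𝓔.coinduced p).coinduced q).parDeg k X r := by
  unfold ParSh.Str.parDeg
  congr 1
  refine parWt_congr _ _ rfl (fun j => rfl) fun j => ?_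
  rw [pieceX_coinduced', pieceX_coinduced', pieceX_coinduced', image_image]
  rfl

end Comp

section Along

omit [X.Over (Spec (CommRingCat.of k))] in
theorem along_coinduced {r : ℕ} {E V : X.Modules} (hV : FlatMod.IsFinLocFreeOfRank r V) (q : E ⟶ V) [Epi q]
    (𝓔 : ParSh.Str E) (h : 𝓔.Along I) : (𝓔.coinduced q).Along I := by
  haveI := mono_twistMap (I := I) hV
  obtain ⟨d, hd⟩ := exists_bot_coinduced (I := I) hV q
  show imageSubobject (𝓔.bot.arrow ≫ q) = imageSubobject (ParSh.twistMap I V)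
  rw [h, imageSubobject_mono (ParSh.twistMap I V)]
  exact Subobject.eq_mk_of_comm _ d.symm (by rw [Iso.symm_hom, Iso.inv_comp_eq]; exact hd.symm)

omit [X.Over (Spec (CommRingCat.of k))] in
theorem along_induced {r s c : ℕ} {G F : X.Modules} (hD : FGA.IsEffCartier I)
    (hG : FlatMod.IsFinLocFreeOfRank r G) (hF : FlatMod.IsFinLocFreeOfRank s F) (ι : G ⟶ F) [Mono ι]
    (hC : FlatMod.IsFinLocFreeOfRank c (cokernel ι)) (𝓕 : ParSh.Str F) (h : 𝓕.Along I) :
    (𝓕.induced ι).Along I := by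
  haveI := mono_twistMap (I := I) hG
  obtain ⟨d, hd⟩ := exists_bot_induced hD hG hF ι hC
  show (Subobject.pullback ι).obj 𝓕.bot = imageSubobject (ParSh.twistMap I G)
  rw [h, imageSubobject_mono (ParSh.twistMap I G)]
  exact Subobject.eq_mk_of_comm _ d.symm (by rw [Iso.symm_hom, Iso.inv_comp_eq]; exact hd.symm)

end Along

section Add

variable [IsIntegral X] (hX : RegCurve k X) (hD : FGA.IsEffCartier I)
include hX hD

theorem adm_piece {r : ℕ} {G : X.Modules} (hG : FlatMod.IsFinLocFreeOfRank r G) (P : Subobject G)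
    (hP : ParSh.twistSub I G ≤ P) : Adm k (P : X.Modules) := by
  haveI := hX.like.noetherian
  haveI := mono_twistMap (I := I) hG
  have hI1 : FlatMod.IsFinLocFreeOfRank 1 (ClSub.idealMod I) :=
    (isInvertible_iff_isFinLocFreeOfRank_one _).1 (isInvertible_idealMod I hD)
  have hGI : FlatMod.IsFinLocFreeOfRank r (CohB1.tensorMod G (ClSub.idealMod I)) := by
    simpa using isFinLocFreeOfRank_tensor hG hI1
  obtain ⟨S, hS⟩ := exists_suppIn_of_maximal hX.like.dim
    (M1.isCoh_cokernel (isCoh_of_ofRank hGI).1 (isCoh_of_ofRank hG) (ParSh.twistMap I G)) fun x hx =>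
      eq_genericPoint_of_maximal hx ▸ eq_zero_stalk_cokernel (ParSh.twistMap I G) _
        (surjective_stalkLin_genericPoint (nonempty_stalk_equiv hGI _) (nonempty_stalk_equiv hG _) _
          ((mono_iff_stalk (ParSh.twistMap I G)).1 inferInstance _))
  let j : CohB1.tensorMod G (ClSub.idealMod I) ⟶ (P : X.Modules) :=
    factorThruImageSubobject (ParSh.twistMap I G) ≫ Subobject.ofLE (imageSubobject (ParSh.twistMap I G)) P hP
  have hj : j ≫ P.arrow = ParSh.twistMap I G := by
    simp only [j, Category.assoc, Subobject.ofLE_arrow]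
    exact imageSubobject_arrow_comp _
  haveI : Mono j := mono_of_mono_fac hj
  refine (sandwich j P.arrow (hX.like.adm (isCoh_of_ofRank hGI)) (hX.like.adm (isCoh_of_ofRank hG)) hS.closed
    fun x hx b => ?_).1
  rw [hj]
  obtain ⟨a, ha⟩ := (exact_iff_stalk_eq_zero _).1 (ShortComplex.exact_cokernel (ParSh.twistMap I G)) x b
    (hS.zero x hx _)
  exact ⟨a, ha⟩

theorem euler_pullback_add_image {r rK rV : ℕ} {K F V : X.Modules} (hK : FlatMod.IsFinLocFreeOfRank rK K)
    (hF : FlatMod.IsFinLocFreeOfRank r F) (hV : FlatMod.IsFinLocFreeOfRank rV V) (i : K ⟶ F) (p : F ⟶ V)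
    (w : i ≫ p = 0) (hS : (ShortComplex.mk i p w).ShortExact) (P : Subobject F) (hP : ParSh.twistSub I F ≤ P) :
    Curv2.euler k X ((Subobject.pullback i).obj P : X.Modules) +
      Curv2.euler k X (imageSubobject (P.arrow ≫ p) : X.Modules) = Curv2.euler k X (P : X.Modules) := by
  haveI : Mono i := hS.mono_f
  haveI : Epi p := hS.epi_g
  have hc : FlatMod.IsFinLocFreeOfRank rV (cokernel i) :=
    isFinLocFreeOfRank_of_iso ((cokernelIsCokernel i).coconePointUniqueUpToIso hS.gIsCokernel).symm hV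
  have hpb := Subobject.isPullback i P
  let a := Subobject.pullbackπ i P
  haveI : Mono a := ⟨fun u v huv => hpb.hom_ext huv (by
    rw [← cancel_mono i, Category.assoc, Category.assoc, ← hpb.w, ← Category.assoc, ← Category.assoc]
    exact congrArg (· ≫ P.arrow) huv)⟩
  have za : a ≫ P.arrow ≫ p = 0 := by
    rw [← Category.assoc, hpb.w, Category.assoc, w, comp_zero]
  let g := factorThruImageSubobject (P.arrow ≫ p)
  have zg : a ≫ g = 0 := by
    rw [← cancel_mono (imageSubobject (P.arrow ≫ p)).arrow]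
    simp [g, za]
  let K' : ShortComplex X.Modules := ShortComplex.mk a g zg
  have hker : IsLimit (KernelFork.ofι a za) := by
    refine KernelFork.IsLimit.ofι _ _ (fun {W} φ hφ => hpb.lift φ
      (hS.exact.lift (φ ≫ P.arrow) (by simpa using hφ)) (hS.exact.lift_f _ _).symm)
      (fun {W} φ hφ => hpb.lift_fst _ _ _) (fun {W} φ hφ b hb => ?_)
    rw [← cancel_mono a]
    exact hb.trans (hpb.lift_fst _ _ _).symm
  have hK' : K'.ShortExact :=
    { exact := ShortComplex.exact_of_f_is_kernel K' (KernelFork.IsLimit.ofι _ _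
        (fun {W} φ hφ => hker.lift (KernelFork.ofι φ (by
          rw [← imageSubobject_arrow_comp (P.arrow ≫ p), ← Category.assoc]
          exact (congrArg (· ≫ (imageSubobject (P.arrow ≫ p)).arrow) hφ).trans zero_comp)))
        (fun {W} φ hφ => hker.fac _ WalkingParallelPair.zero)
        (fun {W} φ hφ b hb => by
          refine Fork.IsLimit.hom_ext hker (hb.trans ?_)
          exact (hker.fac (KernelFork.ofι φ _) WalkingParallelPair.zero).symm))
      mono_f := inferInstanceAs (Mono a)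
      epi_g := inferInstanceAs (Epi g) }
  have h₁ : Adm k K'.X₁ := by
    refine adm_piece hX hD hK _ ?_
    have h1 := along_induced hD hK hF i hc (ParSh.Str.trivialStr (ParSh.twistSub I F)) rfl
    exact le_of_eq_of_le h1.symm ((Subobject.pullback i).monotone hP)
  have h₃ : Adm k K'.X₃ := by
    refine adm_piece hX hD hV _ ?_
    have h1 := along_coinduced hV p (ParSh.Str.trivialStr (ParSh.twistSub I F)) rfl
    refine le_of_eq_of_le h1.symm ?_
    show imageSubobject ((ParSh.twistSub I F).arrow ≫ p) ≤ imageSubobject (P.arrow ≫ p)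
    rw [← Subobject.ofLE_arrow hP, Category.assoc]
    exact imageSubobject_comp_le _ _
  exact (euler_add hK' h₁ h₃).symm

/-- Additivity of the parabolic degree. -/
theorem parDeg_add {r rK rV : ℕ} {K F V : X.Modules} (hK : FlatMod.IsFinLocFreeOfRank rK K)
    (hF : FlatMod.IsFinLocFreeOfRank r F) (hV : FlatMod.IsFinLocFreeOfRank rV V) (i : K ⟶ F) (p : F ⟶ V) [Epi p]
    (w : i ≫ p = 0) (hS : (ShortComplex.mk i p w).ShortExact) (𝓕 : ParSh.Str F) (h𝓕 : 𝓕.Along I) :
    𝓕.parDeg k X r = (𝓕.induced i).parDeg k X rK + (𝓕.coinduced p).parDeg k X rV := by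
  haveI := hX.like.noetherian
  have hd := VB17.deg_add hX.like hS hK hF hV
  change Curv2.deg k X F r = Curv2.deg k X K rK + Curv2.deg k X V rV at hd
  have key : ∀ j : Fin (𝓕.l + 2), (Curv2.euler k X (𝓕.pieceX j : X.Modules) : ℝ) =
      (Curv2.euler k X ((𝓕.induced i).pieceX j : X.Modules) : ℝ) +
        (Curv2.euler k X ((𝓕.coinduced p).pieceX j : X.Modules) : ℝ) := fun j => by
    rw [pieceX_induced', pieceX_coinduced']
    exact_mod_cast (euler_pullback_add_image hX hD hK hF hV i p w hS (𝓕.pieceX j)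
      (le_of_eq_of_le h𝓕.symm (𝓕.bot_le_pieceX j))).symm
  have hw : 𝓕.parWt k X = (𝓕.induced i).parWt k X + (𝓕.coinduced p).parWt k X := by
    unfold ParSh.Str.parWt
    change _ = (∑ j : Fin (𝓕.l + 1), _) + (∑ j : Fin (𝓕.l + 1), _)
    rw [← Finset.sum_add_distrib]
    refine Finset.sum_congr rfl fun j _ => ?_
    rw [← 𝓕.pieceX_castSucc, key, key, ← (𝓕.induced i).pieceX_castSucc, ← (𝓕.coinduced p).pieceX_castSucc]
    exact (by intros; ring : ∀ z a b c d : ℝ, z * (a + b - (c + d)) = z * (a - c) + z * (b - d)) _ _ _ _ _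
  unfold ParSh.Str.parDeg
  rw [hw, hd]
  push_cast
  ring

/-- A parabolic map from a quotient of a stable bundle to the kernel vanishes. -/
theorem hom_eq_zero_of_stable {r : ℕ} {F F' F'' : X.Modules} (hF : FlatMod.IsFinLocFreeOfRank r F)
    (𝓕 : ParSh.Str F) (h𝓕 : 𝓕.Along I) (hst : ParSh.IsParStable k X 𝓕 r) (i : F' ⟶ F) (p : F ⟶ F'') [Epi p]
    (w : i ≫ p = 0) (hS : (ShortComplex.mk i p w).ShortExact) {a b : ℕ}
    (hF' : FlatMod.IsFinLocFreeOfRank a F') (hF'' : FlatMod.IsFinLocFreeOfRank b F'')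
    (φ : F'' ⟶ F') (hφ : ParSh.IsParHom (𝓕.coinduced p) (𝓕.induced i) φ) : φ = 0 := by
  haveI := hX.like.noetherian
  haveI : Mono i := hS.mono_f
  by_contra hne
  obtain ⟨rK, rI, hKφ, hI, hb, hle, h0, -⟩ := exists_image hX.pid hF'' hF' φ
  have hpos : 0 < rI := Nat.pos_of_ne_zero fun h => hne (h0.1 h)
  obtain ⟨V', ι, u, hι, hV', hu, hsat, -, -⟩ := exists_saturation hX hF' hI (Abelian.image.ι φ)
  haveI := hι
  haveI : Mono u := mono_of_mono_fac hu
  obtain ⟨c, hC⟩ := exists_rank_of_isFinLocFree hsat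
  have hc : FlatMod.IsFinLocFreeOfRank b (cokernel i) :=
    isFinLocFreeOfRank_of_iso ((cokernelIsCokernel i).coconePointUniqueUpToIso hS.gIsCokernel).symm hF''
  set q := Abelian.factorThruImage φ
  have hle' := parDeg_le_of_factor hX hD (𝓕.coinduced p) (along_coinduced hF'' p 𝓕 h𝓕) (𝓕.induced i)
    (along_induced hD hF' hF i hc 𝓕 h𝓕) φ hφ q u ι (by rw [hu]; exact Abelian.image.fac φ) hI hV' hF' hC
  rw [← parDeg_induced_comp] at hle'
  haveI : Epi (p ≫ q) := epi_comp _ _
  rw [← parDeg_coinduced_comp] at hle'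
  have hr : r = a + b := rank_add hS hF' hF hF''
  -- the sub-bundle
  have h1 := hst V' rI (ι ≫ i) inferInstance hpos (by omega) hV'
  -- the kernel of the quotient
  obtain ⟨rK', -, hK'⟩ := exists_rank_of_mono hX.pid hF
    (CurveCoh17.isCoh_kernel (isCoh_of_ofRank hF) (isCoh_of_ofRank hI).1 (p ≫ q)) (kernel.ι (p ≫ q))
  have hS' : (ShortComplex.mk (kernel.ι (p ≫ q)) (p ≫ q) (kernel.condition _)).ShortExact :=
    { exact := ShortComplex.exact_kernel _ }
  have hr' : r = rK' + rI := rank_add hS' hK' hF hI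
  have h2 := hst _ rK' (kernel.ι (p ≫ q)) inferInstance (by omega) (by omega) hK'
  have h3 := parDeg_add hX hD hK' hF hI (kernel.ι (p ≫ q)) (p ≫ q) (kernel.condition _) hS' 𝓕 h𝓕
  have hr'' : (r : ℝ) = (rK' : ℝ) + (rI : ℝ) := by exact_mod_cast hr'
  have hr0 : (0 : ℝ) ≤ (r : ℝ) := Nat.cast_nonneg r
  have h4 := mul_le_mul_of_nonneg_right hle' hr0
  rw [h3] at h1 h2
  rw [hr''] at h1 h2 h4
  nlinarith [h1, h2, h4]

end Add

end Groth.Agent.GPStab28
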